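import Groth.Agent.CdDim.Dim
import Groth.Agent.H23.StalkPrimes
import Groth.Agent.VarDim.Basic
import Groth.Agent.FibDim.RelDim
import Mathlib.RingTheory.Ideal.Height
import Mathlib.RingTheory.Ideal.KrullsHeightTheorem

/-! the codimension bounds -/

universe u

open CategoryTheory CategoryTheory.Limits AlgebraicGeometry Opposite TensorProduct

namespace Groth.Agent.CdDim

set_option autoImplicit false
set_option maxHeartbeats 1000000
set_option synthInstance.maxHeartbeats 400000
set_option backward.isDefEq.respectTransparency false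
set_option backward.isDefEq.respectTransparency.types false
set_option linter.style.haveILetI false

/-- no inclusions in the fibres of ind-etale algebras -/
theorem eq_of_le_of_comap_eq {A R : Type u} [CommRing A] [CommRing R] [Algebra A R] (hR : EtPBC.IsIndEtale A R)
    {Q Q' : Ideal R} [Q.IsPrime] [Q'.IsPrime] (hle : Q ≤ Q')
    (h : Q.comap (algebraMap A R) = Q'.comap (algebraMap A R)) : Q = Q' := by
  let p := Q.comap (algebraMap A R)
  have hK : IsFracHom A p.ResidueField := fun z => by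
    obtain ⟨a, b, hb, rfl⟩ := IsFractionRing.div_surjective (A := A ⧸ p) z
    obtain ⟨a, rfl⟩ := Ideal.Quotient.mk_surjective a
    obtain ⟨b, rfl⟩ := Ideal.Quotient.mk_surjective b
    have hne : algebraMap (A ⧸ p) p.ResidueField (Ideal.Quotient.mk p b) ≠ 0 :=
      IsFractionRing.to_map_ne_zero_of_mem_nonZeroDivisors hb
    exact ⟨a, b, hne, div_mul_cancel₀ _ hne⟩
  have hker : RingHom.ker (algebraMap A p.ResidueField) = p := Ideal.ker_algebraMap_residueField p
  obtain ⟨q, hq, hqQ⟩ := exists_prime_over hK Q hker.symm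
  obtain ⟨q', hq', hqQ'⟩ := exists_prime_over hK Q' (h.symm.trans hker.symm)
  haveI := hq
  haveI := hq'
  have hsub : q ≤ q' := fun b hb => by
    obtain ⟨s, r, hs, hr⟩ := exists_smul hK b
    have h1 : algebraMap A (p.ResidueField ⊗[A] R) s * b ∈ q' := by
      rw [← Algebra.smul_def, hr]
      refine (hqQ' ▸ hle (hqQ ▸ (?_ : r ∈ fibrePrime q)) : r ∈ fibrePrime q')
      show (1 : p.ResidueField) ⊗ₜ[A] r ∈ q
      rw [← hr, Algebra.smul_def]
      exact q.mul_mem_left _ hb
    exact (hq'.mem_or_mem h1).resolve_left (algebraMap_ne_zero_of_prime (K := p.ResidueField) q' hs)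
  haveI := isMaximal_fibre hR q
  rw [← hqQ, ← hqQ', this.eq_of_le hq'.ne_top hsub]

/-- dimension of quotients of ind-etale algebras -/
theorem ringKrullDim_quotient_map_le {A R : Type u} [CommRing A] [CommRing R] [Algebra A R]
    (hR : EtPBC.IsIndEtale A R) (p : Ideal A) :
    ringKrullDim (R ⧸ p.map (algebraMap A R)) ≤ ringKrullDim (A ⧸ p) := by
  rw [ringKrullDim_quotient, ringKrullDim_quotient]
  let g : PrimeSpectrum.zeroLocus (p.map (algebraMap A R) : Set R) → PrimeSpectrum.zeroLocus (p : Set A) := fun Q =>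
    ⟨PrimeSpectrum.comap (algebraMap A R) Q.1, fun a ha => Q.2 (Ideal.mem_map_of_mem _ ha)⟩
  refine Order.krullDim_le_of_strictMono g fun Q Q' h => ?_
  have hle : Q.1.asIdeal ≤ Q'.1.asIdeal := h.le
  refine lt_of_le_of_ne (Ideal.comap_mono hle : _) fun e => h.ne (Subtype.ext (PrimeSpectrum.ext ?_))
  exact eq_of_le_of_comap_eq hR hle (congrArg (fun P => P.1.asIdeal) e)

variable {X : Scheme.{u}}

theorem ker_specMap {x y : X} (h : x ⤳ y) : RingHom.ker (Cyc.specMap y x h) = (CDiv6.primeOf h).asIdeal := by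
  ext g
  rw [CDiv6.mem_primeOf]
  exact IsLocalRing.residue_eq_zero_iff _

/-- codimensions along a specialization -/
theorem exists_codim_bound [IsLocallyNoetherian X] {x y : X} (h : x ⤳ y) :
    ∃ cx cy dA : ℕ, ringKrullDim (X.presheaf.stalk x) = cx ∧ ringKrullDim (X.presheaf.stalk y) = cy ∧
      ringKrullDim (X.presheaf.stalk y ⧸ RingHom.ker (Cyc.specMap y x h)) = dA ∧ cx + dA ≤ cy ∧
      (x ≠ y → cx < cy) := by
  letI := (X.presheaf.stalkSpecializes h).hom.toAlgebra
  haveI := (CDiv6.primeOf h).2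
  haveI : IsLocalization.AtPrime (X.presheaf.stalk x) (CDiv6.primeOf h).asIdeal :=
    H23.StalkPrimes.isLocalization_primeOf h
  have hx : ringKrullDim (X.presheaf.stalk x) = ((CDiv6.primeOf h).asIdeal.height : WithBot ℕ∞) :=
    IsLocalization.AtPrime.ringKrullDim_eq_height (CDiv6.primeOf h).asIdeal _
  have hsum : ((Order.height (CDiv6.primeOf h) + Order.coheight (CDiv6.primeOf h) : ℕ∞) : WithBot ℕ∞) ≤
      ringKrullDim (X.presheaf.stalk y) := VarDim.height_add_coheight_le _
  have hq : (Order.coheight (CDiv6.primeOf h) : WithBot ℕ∞) =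
      ringKrullDim (X.presheaf.stalk y ⧸ RingHom.ker (Cyc.specMap y x h)) := by
    rw [VarDim.coheight_eq_ringKrullDim_quotient, ker_specMap]
  rw [PrimeSpectrum.height_eq_orderHeight] at hx
  obtain ⟨cy, hcy⟩ : ∃ n : ℕ, ringKrullDim (X.presheaf.stalk y) = n := by
    have ht := ringKrullDim_lt_top (R := X.presheaf.stalk y)
    obtain ⟨e, he⟩ := WithBot.ne_bot_iff_exists.1 (ringKrullDim_ne_bot (R := X.presheaf.stalk y))
    rw [← he] at ht ⊢
    obtain ⟨n, rfl⟩ := ENat.ne_top_iff_exists.1 (WithBot.coe_lt_coe.1 ht).ne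
    exact ⟨n, rfl⟩
  rw [hcy] at hsum
  have hs : Order.height (CDiv6.primeOf h) + Order.coheight (CDiv6.primeOf h) ≤ (cy : ℕ∞) :=
    WithBot.coe_le_coe.1 hsum
  obtain ⟨cx, hcx⟩ := ENat.ne_top_iff_exists.1
    (ne_top_of_le_ne_top (ENat.natCast_ne_top cy) (le_self_add.trans hs))
  obtain ⟨dA, hdA⟩ := ENat.ne_top_iff_exists.1
    (ne_top_of_le_ne_top (ENat.natCast_ne_top cy) (le_add_self.trans hs))
  rw [← hcx, ← hdA] at hs
  refine ⟨cx, cy, dA, hx.trans (by rw [← hcx]; rfl), hcy, hq.symm.trans (by rw [← hdA]; rfl),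
    by exact_mod_cast hs, fun hne => ?_⟩
  have hlt := FibDim.ringKrullDim_stalk_lt h hne
  rw [hx, hcy, ← hcx] at hlt
  exact_mod_cast hlt

end Groth.Agent.CdDim
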