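import Groth.Agent.CdDim.Codim

/-! cohomological dimension from bounds by codimension -/

universe u

open CategoryTheory CategoryTheory.Limits AlgebraicGeometry Opposite

namespace Groth.Agent.CdDim

set_option autoImplicit false
set_option maxHeartbeats 1000000
set_option synthInstance.maxHeartbeats 400000
set_option backward.isDefEq.respectTransparency false
set_option backward.isDefEq.respectTransparency.types false
set_option linter.style.haveILetI false

variable {X : Scheme.{u}} {ℓ : ℕ}

theorem exists_codim [IsLocallyNoetherian X] (y : X) : ∃ c : ℕ, ringKrullDim (X.presheaf.stalk y) = c := by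
  obtain ⟨cx, -, -, hcx, -⟩ := exists_codim_bound (specializes_rfl : y ⤳ y)
  exact ⟨cx, hcx⟩

/-- the codimension -/
noncomputable def cdm [IsLocallyNoetherian X] (y : X) : ℕ := (exists_codim y).choose

theorem cdm_spec [IsLocallyNoetherian X] (y : X) : ringKrullDim (X.presheaf.stalk y) = (cdm y : WithBot ℕ∞) :=
  (exists_codim y).choose_spec

theorem subsingleton_H_of_codim_bounds [IsNoetherian X] (hℓ : ℓ.Prime) (n : ℕ)
    (h1 : ∀ (y : X) (c : ℕ), ringKrullDim (X.presheaf.stalk y) = c →
      2 * c ≤ n ∧ Dix.CohDimLEAt (Spec (X.residueField y)) ℓ (n - 2 * c))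
    (h2 : ∀ (x y : X) (hxy : x ⤳ y), ∀ (R : Type u) [CommRing R] [IsLocalRing R] [Algebra (X.presheaf.stalk y) R]
      [IsLocalHom (algebraMap (X.presheaf.stalk y) R)] [Hensel.IsStrictHenselization (X.presheaf.stalk y) R],
      ∀ P ∈ ((RingHom.ker (Cyc.specMap y x hxy)).map (algebraMap (X.presheaf.stalk y) R)).minimalPrimes,
        ∀ e : ℕ, ringKrullDim (R ⧸ (RingHom.ker (Cyc.specMap y x hxy)).map (algebraMap (X.presheaf.stalk y) R)) = e →
          Dix.CohDimLEAt (Spec (CommRingCat.of (FractionRing (R ⧸ P)))) ℓ e)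
    (s : ℕ) (F : EtCoh.Ab X) (hF : Dix.IsPrimaryTorsion ℓ F)
    (hs : ∀ y ∈ EtPBC.supp F, (s : WithBot ℕ∞) ≤ ringKrullDim (X.presheaf.stalk y))
    (q : ℕ) (hq : n < q + 2 * s) :
    Subsingleton (EtCoh.H X F q) := by
  refine subsingleton_H_of_dimension_function hℓ (fun y => n - 2 * cdm y) (fun y => (h1 y _ (cdm_spec y)).2)
    (fun x y hxy hne R _ _ _ _ _ P hP => ?_) q F hF (fun x hx => ?_)
  · obtain ⟨cx, cy, dA, hcx, hcy, hdA, hsum, hlt⟩ := exists_codim_bound hxy
    have ex : cdm x = cx := by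
      have h := (cdm_spec x).symm.trans hcx
      exact_mod_cast h
    have ey : cdm y = cy := by
      have h := (cdm_spec y).symm.trans hcy
      exact_mod_cast h
    have hle := ringKrullDim_quotient_map_le (Groth.Agent.S12237.result (X.presheaf.stalk y) R)
      (RingHom.ker (Cyc.specMap y x hxy))
    rw [hdA] at hle
    haveI : Nontrivial (R ⧸ (RingHom.ker (Cyc.specMap y x hxy)).map (algebraMap (X.presheaf.stalk y) R)) :=
      Ideal.Quotient.nontrivial_iff.2 fun h => by
        have h0 := hP.1.2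
        rw [h] at h0
        exact hP.1.1.ne_top (top_le_iff.1 h0)
    obtain ⟨e, he, hed⟩ : ∃ e : ℕ, ringKrullDim (R ⧸ (RingHom.ker (Cyc.specMap y x hxy)).map
        (algebraMap (X.presheaf.stalk y) R)) = e ∧ e ≤ dA := by
      obtain ⟨e, he⟩ := WithBot.ne_bot_iff_exists.1 (ne_bot_of_le_ne_bot WithBot.coe_ne_bot (ringKrullDim_nonneg_of_nontrivial
        (R := R ⧸ (RingHom.ker (Cyc.specMap y x hxy)).map (algebraMap (X.presheaf.stalk y) R))))
      rw [← he] at hle ⊢
      obtain ⟨m, rfl⟩ := ENat.ne_top_iff_exists.1 (ne_top_of_le_ne_top (ENat.natCast_ne_top dA) (WithBot.coe_le_coe.1 hle))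
      exact ⟨m, rfl, by exact_mod_cast hle⟩
    refine ⟨e, ?_, h2 x y hxy R P hP e he⟩
    have := hlt hne
    have := (h1 y _ hcy).1
    show e + 1 + (n - 2 * cdm y) ≤ n - 2 * cdm x
    omega
  · have h := hs x hx
    rw [cdm_spec x] at h
    have h' : s ≤ cdm x := by exact_mod_cast h
    have := (h1 x _ (cdm_spec x)).1
    show n - 2 * cdm x < q
    omega

end Groth.Agent.CdDim
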