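import Groth.Agent.CdDim.FieldStep
import Groth.Agent.EtTorLib.Exhaust
import Groth.Agent.EtFound.Presentation
import Groth.Agent.S0099

/-! all primes at once -/

universe u

open CategoryTheory CategoryTheory.Limits AlgebraicGeometry Opposite CategoryTheory.Abelian

namespace Groth.Agent.CdDim

set_option autoImplicit false
set_option maxHeartbeats 1000000
set_option synthInstance.maxHeartbeats 400000
set_option backward.isDefEq.respectTransparency false
set_option backward.isDefEq.respectTransparency.types false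
set_option linter.style.haveILetI false

/-- divisibility index in the small universe -/
def SIdx (M : Set ℕ) : Type u := ULift.{u} M

instance (M : Set ℕ) : Preorder (SIdx.{u} M) where
  le i j := i.down.1 ∣ j.down.1
  le_refl i := dvd_refl _
  le_trans _ _ _ := dvd_trans

variable {X : Scheme.{u}}

theorem primary_of_killed {ℓ : ℕ} (m : ℕ) (G : EtCoh.Ab X) (h : ℓ ^ m • 𝟙 G = 0) :
    Dix.IsPrimaryTorsion ℓ G := fun U s x =>
  ⟨U, 𝟙 U, ⟨x, rfl⟩, m, by
    rw [op_id, CategoryTheory.Functor.map_id]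
    exact (EtFound.killedBy_iff_nsmul _ _).2 h U _⟩

/-- sheaves killed by an integer -/
theorem subsingleton_H_of_killed (q : ℕ) :
    ∀ n : ℕ, 0 < n →
      (∀ ℓ : ℕ, ℓ.Prime → ℓ ∣ n → ∀ F : EtCoh.Ab X, Dix.IsPrimaryTorsion ℓ F → Subsingleton (EtCoh.H X F q)) →
      ∀ G : EtCoh.Ab X, n • 𝟙 G = 0 → Subsingleton (EtCoh.H X G q) := by
  intro n
  induction n using Nat.strong_induction_on with
  | _ n ih =>
    intro hn h G hG
    rcases (show n = 1 ∨ 1 < n by omega) with rfl | h1
    · rw [one_smul] at hG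
      exact AddCommGrpCat.subsingleton_of_isZero ((EtCoh.HF X q).map_isZero ((IsZero.iff_id_eq_zero _).2 hG))
    obtain ⟨ℓ, hℓ, hdvd⟩ := Nat.exists_prime_and_dvd (n := n) (by omega)
    obtain ⟨m, rfl⟩ := hdvd
    have hm : 0 < m := Nat.pos_of_mul_pos_left hn
    let φ : G ⟶ G := ℓ • 𝟙 G
    let i := Limits.image.ι φ
    let S : ShortComplex (EtCoh.Ab X) := ShortComplex.mk (kernel.ι φ) (Limits.factorThruImage φ)
      ((cancel_mono i).1 (by rw [Category.assoc, Limits.image.fac, zero_comp, kernel.condition]))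
    have hS : S.ShortExact := by
      haveI : Epi S.g := inferInstanceAs (Epi (Limits.factorThruImage φ))
      haveI : Mono S.f := inferInstanceAs (Mono (kernel.ι φ))
      refine ShortComplex.ShortExact.mk' (S.exact_of_f_is_kernel ?_) inferInstance inferInstance
      exact isKernelOfComp i φ (kernelIsKernel φ) S.zero (Limits.image.fac φ)
    have hK : ℓ • 𝟙 (kernel φ) = 0 := by
      refine (cancel_mono (kernel.ι φ)).1 ?_
      rw [Preadditive.nsmul_comp, Category.id_comp, zero_comp]
      exact (show ℓ • kernel.ι φ = kernel.ι φ ≫ φ by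
        rw [Preadditive.comp_nsmul, Category.comp_id]).trans (kernel.condition φ)
    have hI : m • 𝟙 (Limits.image φ) = 0 := by
      refine (cancel_epi (Limits.factorThruImage φ)).1 ((cancel_mono i).1 ?_)
      rw [Preadditive.comp_nsmul, Category.comp_id, comp_zero, zero_comp, Preadditive.nsmul_comp, Limits.image.fac,
        smul_smul, mul_comm, hG]
    haveI h3 : Subsingleton (EtCoh.H X S.X₁ q) := h ℓ hℓ (dvd_mul_right _ _) _
      (primary_of_killed 1 _ (by rw [pow_one]; exact hK))
    haveI h4 : Subsingleton (EtCoh.H X S.X₃ q) :=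
      ih m (lt_mul_of_one_lt_left hm hℓ.one_lt) hm (fun ℓ' h' hd => h ℓ' h' (hd.trans (dvd_mul_left _ _))) _ hI
    refine subsingleton_of_forall_eq 0 fun x => ?_
    obtain ⟨z, rfl⟩ := Ext.covariant_sequence_exact₂ _ hS (x : EtCoh.H X S.X₂ q) (@Subsingleton.elim _ h4 _ _)
    rw [@Subsingleton.elim _ h3 z 0, Ext.zero_comp]

/-- cohomological dimension prime by prime -/
theorem cohDimLE_of_forall [CompactSpace X] [QuasiSeparatedSpace X] {d : ℕ}
    (h : ∀ ℓ : ℕ, ℓ.Prime → Dix.CohDimLEAt X ℓ d) : EtCoh.CohDimLE X d := by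
  intro F hF q hq
  let M : Set ℕ := {n | 0 < n}
  obtain ⟨hc⟩ := EtTorLib.nonempty_isColimit_torsCocone F (M := M) Nat.one_pos (fun a ha b hb => Nat.mul_pos ha hb)
    fun U s x => by
      obtain ⟨V, g, hv, ho⟩ := hF U s x
      exact ⟨V, g, addOrderOf (F.obj.map g.op s), hv, ho.addOrderOf_pos, addOrderOf_nsmul_eq_zero _⟩
  let e : SIdx.{u} M ≃o EtTorLib.TIdx.{u} M :=
    { toFun := fun i => ⟨i.down⟩, invFun := fun i => ⟨i.down⟩, map_rel_iff' := Iff.rfl }
  haveI : IsFiltered (EtTorLib.TIdx.{u} M) :=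
    EtTorLib.isFiltered_tidx Nat.one_pos fun a ha b hb => Nat.mul_pos ha hb
  haveI : IsFiltered (SIdx.{u} M) := IsFiltered.of_equivalence e.equivalence.symm
  haveI := Groth.Agent.S0099.result X q (SIdx.{u} M)
  haveI : PreservesColimitsOfShape (EtTorLib.TIdx.{u} M) (EtCoh.HF X q) :=
    preservesColimitsOfShape_of_equiv e.equivalence _
  refine AddCommGrpCat.subsingleton_of_isZero ((IsZero.iff_id_eq_zero _).2
    ((isColimitOfPreserves (EtCoh.HF X q) hc).hom_ext fun i => ?_))
  exact (@AddCommGrpCat.isZero_of_subsingleton ((EtCoh.HF X q).obj ((EtTorLib.torsDiagram F M).obj i))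
    (subsingleton_H_of_killed q i.n i.mem (fun ℓ hℓ _ G hG => h ℓ hℓ G hG q hq) _
      (EtTorLib.torsDiagram_nsmul F i))).eq_of_src _ _

theorem cohDimLEAt_of_cohDimLE {d : ℕ} (h : EtCoh.CohDimLE X d) (ℓ : ℕ) (hℓ : ℓ.Prime) : Dix.CohDimLEAt X ℓ d :=
  fun F hF => h F (isTorsion_of_primary hℓ hF)

end Groth.Agent.CdDim
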