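import Groth.Agent.CdDim.Main
import Groth.Agent.CdDim.TorsionAll
import Groth.Agent.CurveCd.Main
import Groth.Agent.S0736
import Mathlib.RingTheory.Ideal.GoingDown
import Mathlib.RingTheory.KrullDimension.Basic

/-! fraction fields along strict henselizations -/

universe u

open CategoryTheory CategoryTheory.Limits AlgebraicGeometry Opposite TensorProduct

namespace Groth.Agent.CdDim

set_option autoImplicit false
set_option maxHeartbeats 1000000
set_option synthInstance.maxHeartbeats 400000
set_option backward.isDefEq.respectTransparency false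
set_option backward.isDefEq.respectTransparency.types false
set_option linter.style.haveILetI false

theorem comap_eq_of_minimalPrimes {A R : Type u} [CommRing A] [CommRing R] [Algebra A R] [Module.Flat A R]
    (p : Ideal A) [p.IsPrime] (P : Ideal R) (hP : P ∈ (p.map (algebraMap A R)).minimalPrimes) :
    P.comap (algebraMap A R) = p := by
  haveI := hP.1.1
  haveI : P.LiesOver (P.comap (algebraMap A R)) := ⟨rfl⟩
  obtain ⟨Q, hQle, hQ, hQp⟩ := Ideal.exists_ideal_le_liesOver_of_le (p := p) (q := P.comap (algebraMap A R)) P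
    (Ideal.map_le_iff_le_comap.1 hP.1.2)
  haveI := hQ
  have hle : P ≤ Q := hP.2 ⟨hQ, Ideal.map_le_iff_le_comap.2 hQp.over.le⟩ hQle
  rw [le_antisymm hle hQle]
  exact hQp.over.symm

variable {X : Scheme.{u}} {ℓ : ℕ}

/-- fraction fields over a point have at most its cohomological dimension -/
theorem cdLEAt_fractionRing (hℓ : ℓ.Prime) {x y : X} (h : x ⤳ y) (R : Type u) [CommRing R] [IsLocalRing R]
    [Algebra (X.presheaf.stalk y) R] [IsLocalHom (algebraMap (X.presheaf.stalk y) R)]
    [Hensel.IsStrictHenselization (X.presheaf.stalk y) R]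
    (P : Ideal R) (hP : P ∈ ((RingHom.ker (Cyc.specMap y x h)).map (algebraMap (X.presheaf.stalk y) R)).minimalPrimes)
    {d : ℕ} (hd : Dix.CohDimLEAt (Spec (X.residueField x)) ℓ d) :
    Dix.CohDimLEAt (Spec (CommRingCat.of (FractionRing (R ⧸ P)))) ℓ d := by
  letI := (Cyc.specMap y x h).toAlgebra
  haveI : (RingHom.ker (Cyc.specMap y x h)).IsPrime := RingHom.ker_isPrime _
  haveI : P.IsPrime := hP.1.1
  have hR := Groth.Agent.S12237.result (X.presheaf.stalk y) R
  haveI : Algebra.WeaklyEtale (X.presheaf.stalk y) R := Groth.Agent.S0736.result _ _ hR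
  haveI : Module.Flat (X.presheaf.stalk y) R := Algebra.WeaklyEtale.flat
  have hK := isFracHom_specMap h
  obtain ⟨q, hq, rfl⟩ := exists_prime_over hK P (comap_eq_of_minimalPrimes _ P hP)
  haveI := hq
  haveI : q.IsMaximal := isMaximal_fibre hR q
  obtain ⟨e⟩ := nonempty_residueField_equiv hK q
  let K1 : Type u := X.residueField x
  let B : Type u := (X.residueField x) ⊗[X.presheaf.stalk y] R
  haveI : Algebra.IsIntegral K1 B := isIntegral_fibre hR
  let φ : K1 →+* FractionRing (R ⧸ fibrePrime q) :=
    e.symm.toRingHom.comp ((algebraMap B q.ResidueField).comp (algebraMap K1 B))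
  have hφ : φ.IsIntegral :=
    RingHom.IsIntegral.trans _ _
      (RingHom.IsIntegral.trans _ _ (Algebra.IsIntegral.isIntegral (R := K1) (A := B))
        (RingHom.isIntegral_of_surjective _ (Ideal.algebraMap_residueField_surjective q)))
      (RingHom.isIntegral_of_surjective _ e.symm.surjective)
  haveI : IsIntegralHom (Spec.map (CommRingCat.ofHom φ)) := IsIntegralHom.SpecMap_iff.2 hφ
  exact cdLEAt_of_isIntegralHom hℓ (Spec.map (CommRingCat.ofHom φ)) hd

/-- closed points with separably closed residue fields -/
theorem cdLEAt_zero_of_isSepClosed (K : Type u) [Field K] [IsSepClosed K] (ℓ : ℕ) :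
    Dix.CohDimLEAt (Spec (CommRingCat.of K)) ℓ 0 := fun F _ q hq => by
  haveI : IsSepClosed (IsLocalRing.ResidueField K) := AlgSpDec.EtStalkProps.isSepClosed_of_ringEquiv'
    (RingEquiv.ofBijective (IsLocalRing.residue K) ⟨(IsLocalRing.residue K).injective, IsLocalRing.residue_surjective⟩)
  haveI : HenselianLocalRing K := inferInstance
  exact Groth.Agent.S0073.result K F q hq

/-- in dimension one a point which is not closed is a maximal point -/
theorem mem_irreducibleComponents_of_dim_one (hdim : topologicalKrullDim ↥X ≤ 1) (x : X)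
    (hx : ¬ IsClosed ({x} : Set X)) : closure {x} ∈ irreducibleComponents (X : Type u) := by
  obtain ⟨w, hw, hne⟩ : ∃ w, x ⤳ w ∧ w ≠ x := by
    by_contra hno
    push Not at hno
    refine hx (closure_subset_iff_isClosed.1 fun w hw => ?_)
    exact Set.mem_singleton_iff.2 (hno w (specializes_iff_mem_closure.2 hw))
  refine ⟨isIrreducible_singleton.closure, fun T hT hle => ?_⟩
  haveI : QuasiSober ↥X := inferInstance
  obtain ⟨z, hz⟩ := QuasiSober.sober hT.closure isClosed_closure
  have hzx : z ⤳ x := specializes_iff_mem_closure.2 (hz.def.symm ▸ subset_closure (hle (subset_closure rfl)))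
  rcases eq_or_ne z x with rfl | hzne
  · exact (hz.def.symm ▸ subset_closure : T ⊆ closure {z})
  · exfalso
    have h1 : w < x := lt_iff_le_not_ge.2 ⟨hw, fun h => hne (Specializes.antisymm (h : w ⤳ x) hw).eq⟩
    have h2 : x < z := lt_iff_le_not_ge.2 ⟨hzx, fun h => hzne (Specializes.antisymm hzx (h : x ⤳ z)).eq⟩
    have h3 := Order.length_le_height (x := z)
      (p := ((RelSeries.singleton _ w).snoc x h1).snoc z (by simpa using h2)) (by simp)
    have h4 := CurveCd.height_le_of_dim (d := 1) (by exact_mod_cast hdim) z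
    have h5 := h3.trans h4
    simp at h5

end Groth.Agent.CdDim
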