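import Groth.Agent.CdDim.Dim

/-! dimension one -/

universe u

open CategoryTheory CategoryTheory.Limits AlgebraicGeometry Opposite

namespace Groth.Agent.CdDim

set_option autoImplicit false
set_option maxHeartbeats 1000000
set_option synthInstance.maxHeartbeats 400000
set_option backward.isDefEq.respectTransparency false
set_option backward.isDefEq.respectTransparency.types false
set_option linter.style.haveILetI false

variable {X : Scheme.{u}} {ℓ : ℕ}

/-- noetherian schemes of dimension one with separably closed closed points -/
theorem cdLEAt_two_of_dim_one [IsNoetherian X] (hℓ : ℓ.Prime) (hdim : topologicalKrullDim ↥X ≤ 1)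
    (hcd : ∀ x : X, closure {x} ∈ irreducibleComponents (X : Type u) →
      Dix.CohDimLEAt (Spec (X.residueField x)) ℓ 1)
    (hcl : ∀ x : X, IsClosed ({x} : Set X) → IsSepClosed (X.residueField x)) :
    Dix.CohDimLEAt X ℓ 2 := by
  classical
  let φ : X → ℕ := fun x => if IsClosed ({x} : Set X) then 0 else 2
  intro F hF q hq
  refine subsingleton_H_of_dimension_function hℓ φ (fun x => ?_) (fun x y hxy hne R _ _ _ _ _ P hP => ?_) q F hF
    (fun x _ => ?_)
  · by_cases hx : IsClosed ({x} : Set X)
    · haveI : IsSepClosed (X.residueField x) := hcl x hx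
      have h : φ x = 0 := if_pos hx
      rw [h]
      exact cdLEAt_zero_of_isSepClosed (X.residueField x) ℓ
    · have h : φ x = 2 := if_neg hx
      rw [h]
      exact fun G hG n hn => hcd x (mem_irreducibleComponents_of_dim_one hdim x hx) G hG n (by omega)
  · have hxc : ¬ IsClosed ({x} : Set X) := fun h => hne (Set.mem_singleton_iff.1 (hxy.mem_closed h rfl)).symm
    have hx : φ x = 2 := if_neg hxc
    have hy : φ y = 0 := by
      refine if_pos (by_contra fun hyc => hne ?_)
      have h := (mem_irreducibleComponents_of_dim_one hdim y hyc).2 isIrreducible_singleton.closure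
        (closure_minimal (Set.singleton_subset_iff.2 (specializes_iff_mem_closure.1 hxy)) isClosed_closure)
      exact (Specializes.antisymm hxy (specializes_iff_mem_closure.2 (h (subset_closure rfl)))).eq
    exact ⟨1, by omega, cdLEAt_fractionRing hℓ hxy R P hP (hcd x (mem_irreducibleComponents_of_dim_one hdim x hxc))⟩
  · show (if IsClosed ({x} : Set X) then 0 else 2) < q
    split <;> omega

end Groth.Agent.CdDim
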