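import Groth.Agent.WEtLib.Basic
import Groth.Agent.S0733
import Groth.Agent.S0736
import Groth.Agent.IndEtLib.Sys
import Mathlib.RingTheory.Localization.FractionRing
import Mathlib.RingTheory.Etale.Field

/-! fibres of ind-etale algebras over points with a prescribed residue field -/

universe u

open TensorProduct

namespace Groth.Agent.CdDim

set_option autoImplicit false
set_option linter.style.haveILetI false

variable {A K R : Type u} [CommRing A] [Field K] [CommRing R] [Algebra A K] [Algebra A R]

/-- every element is a fraction -/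
def IsFracHom (A K : Type u) [CommRing A] [Field K] [Algebra A K] : Prop :=
  ∀ z : K, ∃ a b : A, algebraMap A K b ≠ 0 ∧ z * algebraMap A K b = algebraMap A K a

theorem exists_smul (hK : IsFracHom A K) (b : K ⊗[A] R) :
    ∃ (s : A) (r : R), algebraMap A K s ≠ 0 ∧ s • b = (1 : K) ⊗ₜ[A] r := by
  induction b using TensorProduct.induction_on with
  | zero => exact ⟨1, 0, by simp, by simp⟩
  | tmul z r =>
    obtain ⟨a, s, hs, h⟩ := hK z
    refine ⟨s, a • r, hs, ?_⟩
    rw [TensorProduct.smul_tmul', ← TensorProduct.smul_tmul, Algebra.smul_def, mul_comm, h, Algebra.smul_def, mul_one]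
  | add x y hx hy =>
    obtain ⟨s, r, hs, hr⟩ := hx
    obtain ⟨t, r', ht, hr'⟩ := hy
    refine ⟨s * t, t • r + s • r', by rw [map_mul]; exact mul_ne_zero hs ht, ?_⟩
    rw [smul_add, TensorProduct.tmul_add, mul_comm s t, mul_smul, hr, mul_comm t s, mul_smul, hr',
      TensorProduct.tmul_smul, TensorProduct.tmul_smul]

theorem algebraMap_ne_zero_of_prime {B : Type u} [CommRing B] [Algebra A B] [Algebra K B] [IsScalarTower A K B]
    (q : Ideal B) [q.IsPrime] {s : A} (hs : algebraMap A K s ≠ 0) : algebraMap A B s ∉ q := fun h => by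
  rw [IsScalarTower.algebraMap_apply A K B] at h
  exact ‹q.IsPrime›.ne_top (q.eq_top_of_isUnit_mem h ((Ne.isUnit hs).map _))

theorem isNoetherianRing_fibre (hK : IsFracHom A K) [IsNoetherianRing R] : IsNoetherianRing (K ⊗[A] R) := by
  refine isNoetherianRing_iff_ideal_fg _ |>.2 fun J => ?_
  let i : R →+* K ⊗[A] R := (Algebra.TensorProduct.includeRight : R →ₐ[A] K ⊗[A] R).toRingHom
  have hJ : J = (J.comap i).map i := by
    refine le_antisymm (fun b hb => ?_) Ideal.map_comap_le
    obtain ⟨s, r, hs, h⟩ := exists_smul hK b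
    have hu : IsUnit (algebraMap A (K ⊗[A] R) s) := by
      rw [IsScalarTower.algebraMap_apply A K (K ⊗[A] R)]
      exact (Ne.isUnit hs).map _
    have hmem : i r ∈ (J.comap i).map i := Ideal.mem_map_of_mem _ (by
      show i r ∈ J
      show (1 : K) ⊗ₜ[A] r ∈ J
      rw [← h, Algebra.smul_def]
      exact J.mul_mem_left _ hb)
    have heq : i r = algebraMap A (K ⊗[A] R) s * b := by rw [← Algebra.smul_def, h]; rfl
    rw [heq] at hmem
    exact (Ideal.unit_mul_mem_iff_mem _ hu).1 hmem
  rw [hJ]
  exact Ideal.FG.map (IsNoetherian.noetherian _) i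

variable (hR : EtPBC.IsIndEtale A R)

include hR in
theorem isMaximal_fibre (q : Ideal (K ⊗[A] R)) [q.IsPrime] : q.IsMaximal := by
  haveI : Algebra.WeaklyEtale K (K ⊗[A] R) :=
    Groth.Agent.S0736.result _ _ (Groth.Agent.S0733.result A R K hR)
  exact WEtLib.isMaximal_of_forall_exists (fun a => WEtLib.exists_mul_eq (K := K) a) q

include hR in
theorem isIntegral_fibre : Algebra.IsIntegral K (K ⊗[A] R) := by
  refine ⟨fun b => ?_⟩
  obtain ⟨S, hS, ⟨e⟩⟩ := IndEtLib.exists_sys (Groth.Agent.S0733.result A R K hR)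
  obtain ⟨j, y, hy⟩ := S.surj (e.symm b)
  haveI : Algebra.Etale K (S.A j) := hS j
  haveI : Module.Finite K (S.A j) := Algebra.FormallyUnramified.finite_of_free K _
  have hb : b = e.toAlgHom.comp (S.ι j) y := by
    show b = e (S.ι j y)
    rw [hy, e.apply_symm_apply]
  rw [hb]
  exact (Algebra.IsIntegral.isIntegral y).map _

/-- the prime of a point of the fibre -/
abbrev fibrePrime (q : Ideal (K ⊗[A] R)) : Ideal R :=
  q.comap (Algebra.TensorProduct.includeRight : R →ₐ[A] K ⊗[A] R).toRingHom

theorem comap_fibrePrime (q : Ideal (K ⊗[A] R)) [q.IsPrime] :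
    (fibrePrime q).comap (algebraMap A R) = RingHom.ker (algebraMap A K) := by
  ext a
  show Algebra.TensorProduct.includeRight (algebraMap A R a) ∈ q ↔ algebraMap A K a = 0
  rw [AlgHom.commutes]
  constructor
  · intro h
    by_contra hne
    exact algebraMap_ne_zero_of_prime (K := K) q hne h
  · intro h
    rw [IsScalarTower.algebraMap_apply A K (K ⊗[A] R), h, map_zero]
    exact q.zero_mem

theorem exists_prime_over (hK : IsFracHom A K) (Q : Ideal R) [Q.IsPrime]
    (hQ : Q.comap (algebraMap A R) = RingHom.ker (algebraMap A K)) :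
    ∃ q : Ideal (K ⊗[A] R), q.IsPrime ∧ fibrePrime q = Q := by
  haveI : (RingHom.ker (algebraMap A K)).IsPrime := RingHom.ker_isPrime _
  let A' := A ⧸ RingHom.ker (algebraMap A K)
  letI : Algebra A' K := (RingHom.kerLift (algebraMap A K)).toAlgebra
  haveI : FaithfulSMul A' K :=
    (faithfulSMul_iff_algebraMap_injective A' K).2 (RingHom.kerLift_injective _)
  haveI : IsFractionRing A' K := IsFractionRing.of_field _ _ fun z => by
    obtain ⟨a, b, hb, h⟩ := hK z
    exact ⟨Ideal.Quotient.mk _ a, Ideal.Quotient.mk _ b, (eq_div_iff hb).2 h⟩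
  let g : A' →+* Q.ResidueField :=
    Ideal.Quotient.lift _ ((algebraMap R Q.ResidueField).comp (algebraMap A R)) (fun a ha => by
      rw [← hQ] at ha
      exact Ideal.algebraMap_residueField_eq_zero.2 ha)
  have hg : Function.Injective g := (injective_iff_map_eq_zero g).2 fun a ha => by
    obtain ⟨a, rfl⟩ := Ideal.Quotient.mk_surjective a
    refine Ideal.Quotient.eq_zero_iff_mem.2 ?_
    rw [← hQ]
    exact Ideal.mem_comap.2 ((Ideal.algebraMap_residueField_eq_zero (I := Q)).1 ha)
  let k : K →+* Q.ResidueField := IsFractionRing.lift hg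
  let kA : K →ₐ[A] Q.ResidueField :=
    { k with
      commutes' := fun a => by
        show k (algebraMap A' K (Ideal.Quotient.mk _ a)) = _
        rw [IsFractionRing.lift_algebraMap, IsScalarTower.algebraMap_apply A R Q.ResidueField]
        rfl }
  let F : K ⊗[A] R →ₐ[A] Q.ResidueField :=
    Algebra.TensorProduct.lift kA (IsScalarTower.toAlgHom A R Q.ResidueField) fun _ _ => Commute.all _ _
  refine ⟨RingHom.ker F.toRingHom, RingHom.ker_isPrime _, ?_⟩
  ext r
  show F (Algebra.TensorProduct.includeRight r) = 0 ↔ r ∈ Q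
  simp [F, Ideal.algebraMap_residueField_eq_zero]

include hR in
theorem fibrePrime_mem_minimalPrimes (hK : IsFracHom A K) (q : Ideal (K ⊗[A] R)) [q.IsPrime] :
    fibrePrime q ∈ ((RingHom.ker (algebraMap A K)).map (algebraMap A R)).minimalPrimes := by
  refine ⟨⟨inferInstance, Ideal.map_le_iff_le_comap.2 (comap_fibrePrime q).ge⟩, fun Q hQ hle => ?_⟩
  haveI := hQ.1
  obtain ⟨q', hq', rfl⟩ := exists_prime_over hK Q (le_antisymm
    ((Ideal.comap_mono hle).trans (comap_fibrePrime q).le) (Ideal.map_le_iff_le_comap.1 hQ.2))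
  have hsub : q' ≤ q := fun b hb => by
    obtain ⟨s, r, hs, h⟩ := exists_smul hK b
    have h1 : algebraMap A (K ⊗[A] R) s * b ∈ q := by
      rw [← Algebra.smul_def, h]
      refine hle ?_
      show (1 : K) ⊗ₜ[A] r ∈ q'
      rw [← h, Algebra.smul_def]
      exact q'.mul_mem_left _ hb
    exact (‹q.IsPrime›.mem_or_mem h1).resolve_left (algebraMap_ne_zero_of_prime (K := K) q hs)
  haveI := isMaximal_fibre hR q'
  rw [this.eq_of_le ‹q.IsPrime›.ne_top hsub]

/-- the residue field of a point of the fibre is a field of fractions -/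
theorem nonempty_residueField_equiv (hK : IsFracHom A K) (q : Ideal (K ⊗[A] R)) [q.IsMaximal] :
    Nonempty (FractionRing (R ⧸ fibrePrime q) ≃+* q.ResidueField) := by
  let i : R →+* K ⊗[A] R := (Algebra.TensorProduct.includeRight : R →ₐ[A] K ⊗[A] R).toRingHom
  let g : R ⧸ fibrePrime q →+* q.ResidueField := Ideal.Quotient.lift _ ((algebraMap _ q.ResidueField).comp i)
    (fun r hr => Ideal.algebraMap_residueField_eq_zero.2 hr)
  have hg : Function.Injective g := (injective_iff_map_eq_zero g).2 fun r hr => by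
    obtain ⟨r, rfl⟩ := Ideal.Quotient.mk_surjective r
    exact Ideal.Quotient.eq_zero_iff_mem.2 (Ideal.algebraMap_residueField_eq_zero.1 hr :)
  let k : FractionRing (R ⧸ fibrePrime q) →+* q.ResidueField := IsFractionRing.lift hg
  refine ⟨RingEquiv.ofBijective k ⟨k.injective, fun z => ?_⟩⟩
  obtain ⟨b, rfl⟩ := Ideal.algebraMap_residueField_surjective q z
  obtain ⟨s, r, hs, h⟩ := exists_smul hK b
  let j := algebraMap (R ⧸ fibrePrime q) (FractionRing (R ⧸ fibrePrime q))
  refine ⟨j (Ideal.Quotient.mk _ r) / j (Ideal.Quotient.mk _ (algebraMap A R s)), ?_⟩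
  have hne : algebraMap (K ⊗[A] R) q.ResidueField (algebraMap A _ s) ≠ 0 := fun hz =>
    algebraMap_ne_zero_of_prime (K := K) q hs (Ideal.algebraMap_residueField_eq_zero.1 hz)
  rw [map_div₀, IsFractionRing.lift_algebraMap, IsFractionRing.lift_algebraMap, Ideal.Quotient.lift_mk,
    Ideal.Quotient.lift_mk]
  show algebraMap _ q.ResidueField (i r) / algebraMap _ q.ResidueField (i (algebraMap A R s)) = _
  have h1 : i r = algebraMap A (K ⊗[A] R) s * b := by rw [← Algebra.smul_def, h]; rfl
  have h2 : i (algebraMap A R s) = algebraMap A (K ⊗[A] R) s :=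
    (Algebra.TensorProduct.includeRight : R →ₐ[A] K ⊗[A] R).commutes s
  rw [h1, h2, map_mul, mul_div_cancel_left₀ _ hne]

end Groth.Agent.CdDim
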