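import Groth.Agent.CdDim.Primary
import Groth.Agent.CdDim.FibreAlg
import Groth.Agent.S0540
import Groth.Agent.S12237
import Groth.Prelude.Def_Cyc
import Groth.Prelude.Def_Hens2

/-! the fibre of a strict localisation over a point -/

universe u

open CategoryTheory CategoryTheory.Limits AlgebraicGeometry Opposite TensorProduct

namespace Groth.Agent.CdDim

set_option autoImplicit false
set_option maxHeartbeats 1000000
set_option synthInstance.maxHeartbeats 400000
set_option backward.isDefEq.respectTransparency false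
set_option backward.isDefEq.respectTransparency.types false
set_option linter.style.haveILetI false

variable {X : Scheme.{u}}

theorem isFracHom_specMap {x y : X} (h : x ⤳ y) :
    letI := (Cyc.specMap y x h).toAlgebra
    IsFracHom (X.presheaf.stalk y) (X.residueField x) := by
  letI := (Cyc.specMap y x h).toAlgebra
  intro z
  obtain ⟨z, rfl⟩ := X.residue_surjective x z
  obtain ⟨U, hU, hy, -⟩ := exists_isAffineOpen_mem_and_subset (U := (⊤ : X.Opens)) (x := y) trivial
  have hx : x ∈ U := h.mem_open U.2 hy
  letI := TopCat.Presheaf.algebra_section_stalk X.presheaf (⟨x, hx⟩ : U)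
  haveI := hU.isLocalization_stalk ⟨x, hx⟩
  obtain ⟨⟨a, s⟩, hz⟩ := IsLocalization.surj (hU.primeIdealOf ⟨x, hx⟩).asIdeal.primeCompl z
  have key : ∀ t : Γ(X, U), algebraMap (X.presheaf.stalk y) (X.residueField x) (X.presheaf.germ U y hy t) =
      X.residue x (X.presheaf.germ U x hx t) := fun t => by
    show X.residue x (X.presheaf.stalkSpecializes h (X.presheaf.germ U y hy t)) = _
    rw [TopCat.Presheaf.germ_stalkSpecializes_apply]
  refine ⟨X.presheaf.germ U y hy a, X.presheaf.germ U y hy s, ?_, ?_⟩
  · rw [key]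
    exact ((IsLocalization.map_units (X.presheaf.stalk x) s).map (X.residue x).hom).ne_zero
  · rw [key, key]
    exact (map_mul (X.residue x).hom _ _).symm.trans (congrArg (X.residue x).hom hz)

theorem spec_specMap_fromSpecStalk {x y : X} (h : x ⤳ y) :
    Spec.map (CommRingCat.ofHom (Cyc.specMap y x h)) ≫ X.fromSpecStalk y = X.fromSpecResidueField x := by
  rw [Cyc.specMap, CommRingCat.ofHom_hom, Spec.map_comp, Category.assoc, Scheme.SpecMap_stalkSpecializes_fromSpecStalk]
  rfl

variable (x y : X) (R : Type u) [CommRing R] [Algebra (X.presheaf.stalk y) R]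

/-- outside the closure the fibre is empty -/
theorem isEmpty_fibre (h : ¬ x ⤳ y) :
    IsEmpty ↥(pullback (X.fromSpecResidueField x) (Hens2.specOf X y R)) := by
  refine ⟨fun w => h ?_⟩
  have e := congrArg (fun r => r.base w) (pullback.condition (f := X.fromSpecResidueField x) (g := Hens2.specOf X y R))
  have h1 : (Hens2.specOf X y R).base ((pullback.snd (X.fromSpecResidueField x) (Hens2.specOf X y R)).base w) = x := by
    refine e.symm.trans ?_
    exact Scheme.fromSpecResidueField_apply x _
  have h2 : x ∈ Set.range (X.fromSpecStalk y).base := ⟨_, h1⟩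
  rw [Scheme.range_fromSpecStalk] at h2
  exact h2

/-- the fibre is the spectrum of the base change -/
theorem nonempty_fibre_iso {x y : X} (h : x ⤳ y) (R : Type u) [CommRing R] [Algebra (X.presheaf.stalk y) R] :
    letI := (Cyc.specMap y x h).toAlgebra
    Nonempty {e : pullback (X.fromSpecResidueField x) (Hens2.specOf X y R) ≅
        Spec (CommRingCat.of ((X.residueField x) ⊗[X.presheaf.stalk y] R)) //
      e.inv ≫ pullback.fst (X.fromSpecResidueField x) (Hens2.specOf X y R) =
        Spec.map (CommRingCat.ofHom (Algebra.TensorProduct.includeLeftRingHom :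
          (X.residueField x) →+* (X.residueField x) ⊗[X.presheaf.stalk y] R))} := by
  letI := (Cyc.specMap y x h).toAlgebra
  haveI : Mono (X.fromSpecStalk y) := inferInstance
  let f : Spec (CommRingCat.of (X.residueField x)) ⟶ Spec (X.presheaf.stalk y) :=
    Spec.map (CommRingCat.ofHom (algebraMap (X.presheaf.stalk y) (X.residueField x)))
  let g : Spec (CommRingCat.of R) ⟶ Spec (X.presheaf.stalk y) :=
    Spec.map (CommRingCat.ofHom (algebraMap (X.presheaf.stalk y) R))
  have hpb : IsPullback (pullback.fst f g) (pullback.snd f g) (X.fromSpecResidueField x) (Hens2.specOf X y R) := by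
    rw [← spec_specMap_fromSpecStalk h]
    refine IsPullback.of_isLimit' ⟨(Category.assoc _ _ _).symm.trans
      ((eq_whisker (pullback.condition (f := f) (g := g)) (X.fromSpecStalk y)).trans (Category.assoc _ _ _))⟩ ?_
    exact PullbackCone.isLimitOfCompMono f g (X.fromSpecStalk y) (PullbackCone.mk _ _ pullback.condition) (pullbackIsPullback f g)
  refine ⟨⟨hpb.isoPullback.symm ≪≫ pullbackSpecIso (X.presheaf.stalk y) (X.residueField x) R, ?_⟩⟩
  simp only [Iso.trans_inv, Iso.symm_inv, Category.assoc, hpb.isoPullback_hom_fst]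
  exact pullbackSpecIso_inv_fst (X.presheaf.stalk y) (X.residueField x) R

variable {ℓ : ℕ} [IsLocalRing R] [IsLocalHom (algebraMap (X.presheaf.stalk y) R)]
  [Hensel.IsStrictHenselization (X.presheaf.stalk y) R]

include ℓ in
theorem cdLEAt_fibre_of_point (hℓ : ℓ.Prime) (h : x ⤳ y) {d : ℕ}
    (hd : Dix.CohDimLEAt (Spec (X.residueField x)) ℓ d) :
    Dix.CohDimLEAt (pullback (X.fromSpecResidueField x) (Hens2.specOf X y R)) ℓ d := by
  letI := (Cyc.specMap y x h).toAlgebra
  obtain ⟨e, he⟩ := nonempty_fibre_iso h R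
  haveI : Algebra.IsIntegral (X.residueField x) ((X.residueField x) ⊗[X.presheaf.stalk y] R) :=
    isIntegral_fibre (Groth.Agent.S12237.result (X.presheaf.stalk y) R)
  haveI : IsIntegralHom (Spec.map (CommRingCat.ofHom (Algebra.TensorProduct.includeLeftRingHom :
      (X.residueField x) →+* (X.residueField x) ⊗[X.presheaf.stalk y] R))) :=
    (IsIntegralHom.SpecMap_iff).2 (Algebra.IsIntegral.isIntegral (R := X.residueField x))
  haveI : IsIntegralHom (pullback.fst (X.fromSpecResidueField x) (Hens2.specOf X y R)) := by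
    have h' : pullback.fst (X.fromSpecResidueField x) (Hens2.specOf X y R) = e.hom ≫ Spec.map (CommRingCat.ofHom
      (Algebra.TensorProduct.includeLeftRingHom :
        (X.residueField x) →+* (X.residueField x) ⊗[X.presheaf.stalk y] R)) := by
      rw [← he, Iso.hom_inv_id_assoc]
    rw [h']
    infer_instance
  exact cdLEAt_of_isIntegralHom hℓ (pullback.fst (X.fromSpecResidueField x) (Hens2.specOf X y R)) hd

include ℓ in
theorem cdLEAt_fibre_of_minimalPrimes [IsLocallyNoetherian X] (hℓ : ℓ.Prime) (h : x ⤳ y) {d : ℕ}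
    (hd : ∀ P ∈ ((RingHom.ker (Cyc.specMap y x h)).map (algebraMap (X.presheaf.stalk y) R)).minimalPrimes,
      Dix.CohDimLEAt (Spec (CommRingCat.of (FractionRing (R ⧸ P)))) ℓ d) :
    Dix.CohDimLEAt (pullback (X.fromSpecResidueField x) (Hens2.specOf X y R)) ℓ d := by
  letI := (Cyc.specMap y x h).toAlgebra
  obtain ⟨e, -⟩ := nonempty_fibre_iso h R
  have hK := isFracHom_specMap h
  have hR := Groth.Agent.S12237.result (X.presheaf.stalk y) R
  haveI : IsNoetherianRing R := (Groth.Agent.S0540.result (X.presheaf.stalk y) R).1 inferInstance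
  let B : Type u := (X.residueField x) ⊗[X.presheaf.stalk y] R
  haveI : IsNoetherianRing B := isNoetherianRing_fibre hK
  have hmax : ∀ q : PrimeSpectrum B, q.asIdeal.IsMaximal := fun q => isMaximal_fibre hR q.asIdeal
  have hpts : Dix.CohDimLEAt (Spec (CommRingCat.of B)) ℓ d := by
    refine cdLEAt_of_points hℓ (fun q => (PrimeSpectrum.isClosed_singleton_iff_isMaximal q).2 (hmax q)) fun q => ?_
    haveI : q.asIdeal.IsMaximal := hmax q
    obtain ⟨k⟩ := nonempty_residueField_equiv hK q.asIdeal
    have hmin := fibrePrime_mem_minimalPrimes hR hK q.asIdeal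
    let j : CommRingCat.of (FractionRing (R ⧸ fibrePrime q.asIdeal)) ≅ (Spec (CommRingCat.of B)).residueField q :=
      k.toCommRingCatIso ≪≫ (Scheme.Spec.residueFieldIso (CommRingCat.of B) q).symm
    exact cdLEAt_of_isIntegralHom hℓ (Spec.map j.hom) (hd _ hmin)
  exact cdLEAt_of_isIntegralHom hℓ e.hom hpts

end Groth.Agent.CdDim
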