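import Groth.Agent.CdDim.TorsionAll

/-! cohomological dimension of field extensions -/

universe u

open CategoryTheory CategoryTheory.Limits AlgebraicGeometry Opposite

namespace Groth.Agent.CdDim

set_option autoImplicit false
set_option maxHeartbeats 1000000
set_option synthInstance.maxHeartbeats 400000
set_option backward.isDefEq.respectTransparency false
set_option backward.isDefEq.respectTransparency.types false
set_option linter.style.haveILetI false

variable {ℓ : ℕ}

/-- algebraic extensions do not raise cohomological dimension -/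
theorem cdLEAt_of_isAlgebraic (hℓ : ℓ.Prime) (K L : Type u) [Field K] [Field L] [Algebra K L]
    [Algebra.IsAlgebraic K L] {d : ℕ} (hd : Dix.CohDimLEAt (Spec (CommRingCat.of K)) ℓ d) :
    Dix.CohDimLEAt (Spec (CommRingCat.of L)) ℓ d := by
  let i := Spec.map (CommRingCat.ofHom (algebraMap K L))
  haveI : IsIntegralHom i := IsIntegralHom.SpecMap_iff.2 (Algebra.IsIntegral.isIntegral (R := K) (A := L))
  exact cdLEAt_of_isIntegralHom hℓ i hd

/-- cohomological dimension of a field extension -/
theorem cdLEAt_field_ext (hℓ : ℓ.Prime) : ∀ (n : ℕ) (K L : Type u) [Field K] [Field L] [Algebra K L] (d : ℕ),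
    Algebra.trdeg K L ≤ n → Dix.CohDimLEAt (Spec (CommRingCat.of K)) ℓ d →
      Dix.CohDimLEAt (Spec (CommRingCat.of L)) ℓ (d + n) := by
  intro n
  induction n with
  | zero =>
    intro K L _ _ _ d htr hd
    haveI : Algebra.IsAlgebraic K L := trdeg_eq_zero_iff.1 (by simpa using htr)
    exact cdLEAt_of_isAlgebraic hℓ K L hd
  | succ n ih =>
    intro K L _ _ _ d htr hd
    by_cases halg : Algebra.IsAlgebraic K L
    · exact fun F hF q hq => cdLEAt_of_isAlgebraic hℓ K L hd F hF q (by omega)
    haveI := Algebra.transcendental_iff_not_isAlgebraic.2 halg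
    obtain ⟨t, ht⟩ := Algebra.Transcendental.transcendental (R := K) (A := L)
    let K1 := IntermediateField.adjoin K ({t} : Set L)
    let t1 : K1 := ⟨t, IntermediateField.mem_adjoin_simple_self K t⟩
    have hgen : IntermediateField.adjoin K ({t1} : Set K1) = ⊤ := by
      refine IntermediateField.map_injective K1.val ?_
      rw [IntermediateField.adjoin_map, Set.image_singleton, ← AlgHom.fieldRange_eq_map,
        IntermediateField.fieldRange_val]
      rfl
    have hadd : Algebra.trdeg K K1 + Algebra.trdeg K1 L = Algebra.trdeg K L := trdeg_add_eq K K1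
    have h1le : (1 : Cardinal) ≤ Algebra.trdeg K K1 := by
      haveI : Algebra.Transcendental K K1 := ⟨⟨t1, fun h => ht (h.algHom K1.val)⟩⟩
      exact Cardinal.one_le_iff_pos.2 (trdeg_pos K K1)
    have hone : Algebra.trdeg K K1 = 1 := by
      refine le_antisymm ?_ h1le
      let A' := Algebra.adjoin K ({t1} : Set K1)
      haveI : IsFractionRing A' K1 := IsFractionRing.of_field _ _ fun z => by
        obtain ⟨r, hr, s, hs, hz⟩ :=
          IntermediateField.mem_adjoin_iff_div.1 (hgen ▸ IntermediateField.mem_top : z ∈ IntermediateField.adjoin K {t1})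
        exact ⟨⟨r, hr⟩, ⟨s, hs⟩, hz⟩
      haveI : Algebra.IsAlgebraic A' K1 := IsLocalization.isAlgebraic K1 (nonZeroDivisors A')
      exact (Algebra.IsAlgebraic.trdeg_le_cardinalMk K ({t1} : Set K1)).trans (le_of_eq (Cardinal.mk_singleton t1))
    have hrest : Algebra.trdeg K1 L ≤ n := by
      have h : (1 : Cardinal) + Algebra.trdeg K1 L ≤ (n + 1 : ℕ) := by rw [← hone, hadd]; exact htr
      obtain ⟨j, hj⟩ := Cardinal.lt_aleph0.1 ((self_le_add_left _ _).trans_lt (h.trans_lt (Cardinal.natCast_lt_aleph0)))
      rw [hj] at h ⊢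
      have : 1 + j ≤ n + 1 := by exact_mod_cast h
      exact_mod_cast (by omega : j ≤ n)
    have := ih K1 L (d + 1) hrest (cdLEAt_step hℓ K K1 t1 hgen hone.le hd)
    rwa [show d + (n + 1) = d + 1 + n by omega]

theorem cohDimLE_field_ext (K L : Type u) [Field K] [Field L] [Algebra K L] (e n : ℕ)
    (hK : EtCoh.CohDimLE (Spec (CommRingCat.of K)) e) (htr : Algebra.trdeg K L ≤ n) :
    EtCoh.CohDimLE (Spec (CommRingCat.of L)) (e + n) :=
  cohDimLE_of_forall fun ℓ hℓ => cdLEAt_field_ext hℓ n K L e htr (cohDimLEAt_of_cohDimLE hK ℓ hℓ)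

end Groth.Agent.CdDim
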