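import Groth.Agent.CdDim.Primary
import Groth.Agent.MorLib.RingUnivHomeo
import Groth.Agent.S0208
import Groth.Agent.S0210
import Groth.Agent.S0642
import Groth.Agent.FieldCd.ClosedPts
import Mathlib.FieldTheory.PurelyInseparable.PerfectClosure
import Mathlib.FieldTheory.IsAlgClosed.AlgebraicClosure
import Mathlib.RingTheory.AlgebraicIndependent.TranscendenceBasis

/-! fields of transcendence degree one over separably closed fields -/

universe u

open CategoryTheory CategoryTheory.Limits AlgebraicGeometry Opposite

namespace Groth.Agent.CdDim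

set_option autoImplicit false
set_option maxHeartbeats 1000000
set_option synthInstance.maxHeartbeats 400000
set_option backward.isDefEq.respectTransparency false
set_option backward.isDefEq.respectTransparency.types false
set_option linter.style.haveILetI false

/-- purely inseparable extensions do not change cohomological dimension -/
theorem cohDimLE_of_purelyInseparable (L M : Type u) [Field L] [Field M] [Algebra L M] [IsPurelyInseparable L M]
    {d : ℕ} (h : EtCoh.CohDimLE (Spec (CommRingCat.of M)) d) : EtCoh.CohDimLE (Spec (CommRingCat.of L)) d := by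
  let i := Spec.map (CommRingCat.ofHom (algebraMap L M))
  haveI : IsIntegralHom i :=
    IsIntegralHom.SpecMap_iff.2 (Algebra.IsIntegral.isIntegral (R := L) (A := M))
  haveI : UniversallyInjective i := (MorLib.RUH.universallyInjective_SpecMap_iff _).2 fun K _ f g hfg =>
    IsPurelyInseparable.injective_comp_algebraMap L M K hfg
  haveI : Surjective i := ⟨fun x => ⟨default, @Subsingleton.elim _
    (inferInstanceAs (Subsingleton (PrimeSpectrum L))) _ _⟩⟩
  haveI := EtContLib.pfl i
  intro F hF q hq
  haveI := h _ (GalTorLib.isTorsion_pull i F hF) q hq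
  exact (Groth.Agent.S0642.result i F q).1.subsingleton

/-- fields of transcendence degree at most one over an algebraically closed field -/
theorem cohDimLE_one_of_isAlgClosed (k M : Type u) [Field k] [IsAlgClosed k] [Field M] [Algebra k M]
    (htr : Algebra.trdeg k M ≤ 1) : EtCoh.CohDimLE (Spec (CommRingCat.of M)) 1 := by
  obtain ⟨j, hj⟩ := Cardinal.lt_aleph0.1 (htr.trans_lt Cardinal.one_lt_aleph0)
  rw [hj, ← Nat.cast_one, Nat.cast_le] at htr
  intro F hF q hq
  rcases (show j = 0 ∨ j = 1 by omega) with rfl | rfl
  · haveI : Algebra.IsAlgebraic k M := trdeg_eq_zero_iff.1 (by rw [hj, Nat.cast_zero])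
    haveI : IsAlgClosed M := IsAlgClosed.of_ringEquiv k M
      (RingEquiv.ofBijective (algebraMap k M) IsAlgClosed.algebraMap_bijective_of_isIntegral)
    exact FieldCd.subsingleton_H_of_isAlgClosed M F q (by omega)
  · have hCi : Curves.IsCi M 1 := TsenLib.tsen_lang hj
    exact Groth.Agent.S0208.result M (fun K' _ _ _ D _ _ _ _ => TsenLib.finrank_eq_one_of_isCr_one
      (TsenLib.isCr_one_of_isCi (Groth.Agent.S0210.result M K' 1 hCi))) F hF q hq

/-- fields of transcendence degree at most one over a separably closed field -/
theorem cohDimLE_one_of_isSepClosed (k L : Type u) [Field k] [IsSepClosed k] [Field L] [Algebra k L]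
    (htr : Algebra.trdeg k L ≤ 1) : EtCoh.CohDimLE (Spec (CommRingCat.of L)) 1 := by
  let Lb := AlgebraicClosure L
  haveI : IsScalarTower k L Lb := inferInstance
  let kb := algebraicClosure k Lb
  let M := perfectClosure L Lb
  refine cohDimLE_of_purelyInseparable L M ?_
  have hle : ∀ a : kb, (a : Lb) ∈ M := fun a => by
    haveI : Algebra.IsAlgebraic k kb := algebraicClosure.isAlgebraic k Lb
    haveI : IsPurelyInseparable k kb := inferInstance
    obtain ⟨n, y, hy⟩ := IsPurelyInseparable.pow_mem k (ringExpChar k) a
    haveI : ExpChar L (ringExpChar k) := expChar_of_injective_ringHom (algebraMap k L).injective _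
    refine (mem_perfectClosure_iff_pow_mem (F := L) (E := Lb) (ringExpChar k)).2 ⟨n, algebraMap k L y, ?_⟩
    rw [← IsScalarTower.algebraMap_apply k L Lb]
    exact (congrArg Subtype.val hy).trans rfl
  let i : kb →+* M := (kb.val.toRingHom).codRestrict M hle
  letI : Algebra kb M := i.toAlgebra
  haveI : IsScalarTower k kb M := IsScalarTower.of_algebraMap_eq fun c => Subtype.ext (by rfl)
  haveI : IsAlgClosed kb := (algebraicClosure.isAlgClosure k Lb).isAlgClosed
  refine cohDimLE_one_of_isAlgClosed kb M ?_
  have h1 : Algebra.trdeg k kb + Algebra.trdeg kb M = Algebra.trdeg k M := trdeg_add_eq k kb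
  have h2 : Algebra.trdeg k L + Algebra.trdeg L M = Algebra.trdeg k M := trdeg_add_eq k L
  haveI : Algebra.IsAlgebraic k kb := algebraicClosure.isAlgebraic k Lb
  rw [trdeg_eq_zero (R := k) (A := kb), zero_add] at h1
  rw [trdeg_eq_zero (R := L) (A := M), add_zero] at h2
  rw [h1, ← h2]
  exact htr

end Groth.Agent.CdDim
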