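import Groth.Agent.CdDim.Main
import Groth.Agent.CdDim.Reverse
import Groth.Agent.CdDim.FieldTsen
import Mathlib.RingTheory.TensorProduct.Maps
import Mathlib.RingTheory.IntegralClosure.IsIntegralClosure.Basic
import Mathlib.FieldTheory.IntermediateField.Adjoin.Defs

/-! cohomological dimension of a simple transcendental extension -/

universe u

open CategoryTheory CategoryTheory.Limits AlgebraicGeometry Opposite TensorProduct

namespace Groth.Agent.CdDim

set_option autoImplicit false
set_option maxHeartbeats 1000000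
set_option synthInstance.maxHeartbeats 400000
set_option backward.isDefEq.respectTransparency false
set_option backward.isDefEq.respectTransparency.types false
set_option linter.style.haveILetI false

variable {ℓ : ℕ}

theorem isTorsion_of_primary (hℓ : ℓ.Prime) {X : Scheme.{u}} {F : EtCoh.Ab X} (hF : Dix.IsPrimaryTorsion ℓ F) :
    EtCoh.IsTorsion F := fun U s x => by
  obtain ⟨V, g, hv, k, hk⟩ := hF U s x
  exact ⟨V, g, hv, isOfFinAddOrder_iff_nsmul_eq_zero.2 ⟨ℓ ^ k, pow_pos hℓ.pos k, hk⟩⟩

/-- vanishing of a stalk of a higher direct image -/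
theorem notMem_supp_Rpush' {X S : Scheme.{u}} (f : X ⟶ S) [QuasiCompact f] [QuasiSeparated f]
    (G : EtCoh.Ab X) (y : S) (R : Type u) [CommRing R] [IsLocalRing R] [Algebra (S.presheaf.stalk y) R]
    [IsLocalHom (algebraMap (S.presheaf.stalk y) R)] [Hensel.IsStrictHenselization (S.presheaf.stalk y) R] (b : ℕ)
    (h : Subsingleton (EtCoh.H (pullback f (Hens2.specOf S y R))
      ((EtCoh.pull (pullback.fst f (Hens2.specOf S y R))).obj G) b)) :
    y ∉ EtPBC.supp ((EtCoh.Rpush f b).obj G) := by
  haveI : IsSepClosed (IsLocalRing.ResidueField R) :=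
    (Hensel.IsStrictHenselization.isSepClosure (R := S.presheaf.stalk y) (S := R)).sep_closed
  let A := (EtCoh.Rpush f b).obj G
  obtain ⟨e⟩ := Groth.Agent.S0620.result f G y R b
  have h0 : IsZero ((EtCoh.stalk (Hens2.geomPt S y R)).obj A) :=
    (@AddCommGrpCat.isZero_of_subsingleton _ h).of_iso e
  have hpull : IsZero ((EtCoh.pull (Hens2.geomPt S y R)).obj A) := (EtFound.isZero_iff_stalks _).2 fun Ω _ _ z =>
    (h0.of_iso ((EtFound.stalkExtIso AddCommGrpCat.{u + 1} (Hens2.geomPt S y R) z).app A).symm).of_iso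
      ((EtFound.sheafFiberPullIso (A := AddCommGrpCat.{u + 1}) (Hens2.geomPt S y R) z).app A)
  intro hy
  obtain ⟨Ω, _, _, ξ, hξ, hz⟩ := CurveCd.mem_of_supp hy
  exact hz (CurveCd.isZero_stalk_of_pull (Hens2.geomPt S y R) A hpull ξ ⟨_, (geomPt_apply y R).trans hξ.symm⟩)

theorem isSepClosed_quotient_ker {R L : Type u} [CommRing R] [IsLocalRing R] [Field L]
    [IsSepClosed (IsLocalRing.ResidueField R)] (φ : R →+* L) (hφ : (RingHom.ker φ).IsMaximal) :
    ∃ (ψ : IsLocalRing.ResidueField R →+* L), ψ.comp (IsLocalRing.residue R) = φ :=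
  ⟨Ideal.Quotient.lift _ φ fun a ha => by
    rw [← IsLocalRing.eq_maximalIdeal hφ] at ha
    exact ha, RingHom.ext fun _ => rfl⟩

section Algebra

variable (K K1 R : Type u) [Field K] [Field K1] [Algebra K K1] [CommRing R] [Algebra K R]

theorem isNoetherianRing_tensor [IsNoetherianRing R] (t : K1) (hgen : IntermediateField.adjoin K {t} = ⊤) :
    IsNoetherianRing (K1 ⊗[K] R) := by
  let A' := Algebra.adjoin K ({t} : Set K1)
  have hK : IsFracHom A' K1 := fun z => by
    have hz : z ∈ IntermediateField.adjoin K ({t} : Set K1) := hgen ▸ IntermediateField.mem_top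
    obtain ⟨r, hr, s, hs, rfl⟩ := IntermediateField.mem_adjoin_iff_div.1 hz
    by_cases h0 : s = 0
    · exact ⟨0, 1, by simp, by simp [h0]⟩
    · exact ⟨⟨r, hr⟩, ⟨s, hs⟩, h0, div_mul_cancel₀ r h0⟩
  haveI : Algebra.FiniteType K A' :=
    (Subalgebra.fg_iff_finiteType _).1 (Subalgebra.fg_adjoin_finset (R := K) {t} |> fun h => by simpa using h)
  haveI : IsNoetherianRing (R ⊗[K] A') := Algebra.FiniteType.isNoetherianRing R _
  haveI : IsNoetherianRing (A' ⊗[K] R) :=
    isNoetherianRing_of_ringEquiv (R ⊗[K] A') (Algebra.TensorProduct.comm K R A').toRingEquiv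
  haveI : IsNoetherianRing (K1 ⊗[A'] (A' ⊗[K] R)) := isNoetherianRing_fibre hK
  exact isNoetherianRing_of_ringEquiv (K1 ⊗[A'] (A' ⊗[K] R))
    (Algebra.TensorProduct.cancelBaseChange K A' K1 K1 R).toRingEquiv

theorem trdeg_le_one [IsLocalRing R] [Algebra.IsIntegral K R] (htr : Algebra.trdeg K K1 ≤ 1)
    (L : Type u) [Field L] [Algebra (K1 ⊗[K] R) L]
    [IsSepClosed (IsLocalRing.ResidueField R)] (q : Ideal (K1 ⊗[K] R)) (hq : RingHom.ker (algebraMap (K1 ⊗[K] R) L) = q)
    (hsurj : Function.Surjective (algebraMap (K1 ⊗[K] R) L)) :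
    EtCoh.CohDimLE (Spec (CommRingCat.of L)) 1 := by
  letI : Algebra K1 L := ((algebraMap (K1 ⊗[K] R) L).comp (algebraMap K1 (K1 ⊗[K] R))).toAlgebra
  haveI : IsScalarTower K1 (K1 ⊗[K] R) L := IsScalarTower.of_algebraMap_eq fun _ => rfl
  haveI : Algebra.IsIntegral K1 L := ⟨fun z => by
    obtain ⟨b, rfl⟩ := hsurj z
    exact (Algebra.IsIntegral.isIntegral (R := K1) b).map (IsScalarTower.toAlgHom K1 (K1 ⊗[K] R) L)⟩
  letI : Algebra K L := ((algebraMap K1 L).comp (algebraMap K K1)).toAlgebra
  haveI : IsScalarTower K K1 L := IsScalarTower.of_algebraMap_eq fun _ => rfl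
  let φ : R →+* L := (algebraMap (K1 ⊗[K] R) L).comp
    (Algebra.TensorProduct.includeRight : R →ₐ[K] K1 ⊗[K] R).toRingHom
  haveI : (RingHom.ker φ).IsPrime := RingHom.ker_isPrime φ
  have hmax : (RingHom.ker φ).IsMaximal := Ideal.isMaximal_of_isIntegral_of_isMaximal_comap (R := K) _ (by
    suffices h : (RingHom.ker φ).comap (algebraMap K R) = ⊥ by rw [h]; exact Ideal.bot_isMaximal
    refine eq_bot_iff.2 fun a ha => ?_
    have h1 : φ (algebraMap K R a) = algebraMap K L a := by
        show algebraMap (K1 ⊗[K] R) L (Algebra.TensorProduct.includeRight (algebraMap K R a)) = _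
        rw [AlgHom.commutes]
        rfl
    have h2 : algebraMap K L a = 0 := h1.symm.trans ha
    exact (Submodule.mem_bot K).2 ((map_eq_zero_iff _ (algebraMap K L).injective).1 h2))
  obtain ⟨ψ, hψ⟩ := isSepClosed_quotient_ker φ hmax
  letI : Algebra (IsLocalRing.ResidueField R) L := ψ.toAlgebra
  haveI : IsScalarTower K (IsLocalRing.ResidueField R) L := IsScalarTower.of_algebraMap_eq fun a => by
    show _ = ψ _
    rw [IsScalarTower.algebraMap_apply K R (IsLocalRing.ResidueField R)]
    show _ = (ψ.comp (IsLocalRing.residue R)) (algebraMap K R a)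
    rw [hψ]
    show _ = algebraMap (K1 ⊗[K] R) L (Algebra.TensorProduct.includeRight (algebraMap K R a))
    rw [AlgHom.commutes]
    rfl
  haveI : Algebra.IsAlgebraic K (IsLocalRing.ResidueField R) := by
    haveI : Algebra.IsIntegral K (IsLocalRing.ResidueField R) :=
      Algebra.IsIntegral.of_surjective (IsScalarTower.toAlgHom K R (IsLocalRing.ResidueField R))
        IsLocalRing.residue_surjective
    infer_instance
  refine cohDimLE_one_of_isSepClosed (IsLocalRing.ResidueField R) L ?_
  haveI : Algebra.IsAlgebraic K1 L := inferInstance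
  have h1 : Algebra.trdeg K (IsLocalRing.ResidueField R) + Algebra.trdeg (IsLocalRing.ResidueField R) L =
      Algebra.trdeg K L := trdeg_add_eq K (IsLocalRing.ResidueField R)
  have h2 : Algebra.trdeg K K1 + Algebra.trdeg K1 L = Algebra.trdeg K L := trdeg_add_eq K K1
  rw [trdeg_eq_zero (R := K) (A := IsLocalRing.ResidueField R), zero_add] at h1
  rw [trdeg_eq_zero (R := K1) (A := L), add_zero] at h2
  rw [h1, ← h2]
  exact htr

end Algebra

/-- simple transcendental extensions raise the cohomological dimension by at most one -/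
theorem cdLEAt_step (hℓ : ℓ.Prime) (K K1 : Type u) [Field K] [Field K1] [Algebra K K1] (t : K1)
    (hgen : IntermediateField.adjoin K {t} = ⊤) (htr : Algebra.trdeg K K1 ≤ 1) {d : ℕ}
    (hd : Dix.CohDimLEAt (Spec (CommRingCat.of K)) ℓ d) :
    Dix.CohDimLEAt (Spec (CommRingCat.of K1)) ℓ (d + 1) := by
  intro G hG q hq
  obtain ⟨n, rfl⟩ : ∃ n, q = n + 1 := ⟨q - 1, by omega⟩
  let f : Spec (CommRingCat.of K1) ⟶ Spec (CommRingCat.of K) := Spec.map (CommRingCat.ofHom (algebraMap K K1))
  refine subsingleton_H_of_Rpush f n G (hd _ (primary_push hℓ f G hG) (n + 1) (by omega)) fun b m hb hbm => ?_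
  by_cases hb1 : b = 1
  · exact hd _ (primary_Rpush hℓ f G hG b) m (by omega)
  refine CurveCd.subsingleton_H_of_supp (fun y hy => ?_) m
  obtain ⟨R, _, _, _, _, _⟩ := exists_strictLocalization y
  refine absurd hy (notMem_supp_Rpush' f G y R b ?_)
  refine (?_ : Dix.CohDimLEAt (pullback f (Hens2.specOf _ y R)) ℓ 1) _ (primary_pull hℓ _ G hG) b (by omega)
  haveI : IsSepClosed (IsLocalRing.ResidueField R) :=
    (Hensel.IsStrictHenselization.isSepClosure (R := (Spec (CommRingCat.of K)).presheaf.stalk y) (S := R)).sep_closed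
  let st : K →+* (Spec (CommRingCat.of K)).presheaf.stalk y := (StructureSheaf.toStalk K y).hom
  letI : Algebra K ((Spec (CommRingCat.of K)).presheaf.stalk y) := st.toAlgebra
  haveI : IsLocalization.AtPrime ((Spec (CommRingCat.of K)).presheaf.stalk y) y.asIdeal :=
    StructureSheaf.IsLocalization.to_stalk K y
  letI : Algebra K R := ((algebraMap ((Spec (CommRingCat.of K)).presheaf.stalk y) R).comp st).toAlgebra
  haveI : IsScalarTower K ((Spec (CommRingCat.of K)).presheaf.stalk y) R := IsScalarTower.of_algebraMap_eq fun _ => rfl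
  have hst : Function.Surjective st := fun z => by
    obtain ⟨⟨a, s⟩, h⟩ := IsLocalization.surj y.asIdeal.primeCompl z
    have hs : (s : K) ≠ 0 := fun h0 => s.2 (h0.symm ▸ y.asIdeal.zero_mem)
    refine ⟨a / s, (IsUnit.mul_left_inj (IsLocalization.map_units _ s)).1 ?_⟩
    rw [h]
    show st (a / s) * st s = st a
    rw [← map_mul, div_mul_cancel₀ a hs]
  haveI : IsNoetherianRing ((Spec (CommRingCat.of K)).presheaf.stalk y) :=
    isNoetherianRing_of_surjective K _ st hst
  haveI : IsNoetherianRing R := (Groth.Agent.S0540.result ((Spec (CommRingCat.of K)).presheaf.stalk y) R).1 inferInstance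
  haveI : Algebra.IsIntegral K R := by
    have hR := Groth.Agent.S12237.result ((Spec (CommRingCat.of K)).presheaf.stalk y) R
    refine ⟨fun r => ?_⟩
    obtain ⟨S, hS, ⟨e⟩⟩ := IndEtLib.exists_sys hR
    obtain ⟨j, z, hz⟩ := S.surj (e.symm r)
    haveI : Algebra.Etale ((Spec (CommRingCat.of K)).presheaf.stalk y) (S.A j) := hS j
    letI := (show IsField ((Spec (CommRingCat.of K)).presheaf.stalk y) from
      MulEquiv.isField (Field.toIsField K) (RingEquiv.ofBijective st ⟨st.injective, hst⟩).symm.toMulEquiv).toField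
    haveI : Module.Finite ((Spec (CommRingCat.of K)).presheaf.stalk y) (S.A j) :=
      Algebra.FormallyUnramified.finite_of_free _ _
    have hb : r = e.toAlgHom.comp (S.ι j) z := by
      show r = e (S.ι j z)
      rw [hz, e.apply_symm_apply]
    rw [hb]
    have hi : IsIntegral ((Spec (CommRingCat.of K)).presheaf.stalk y) (e.toAlgHom.comp (S.ι j) z) :=
      (Algebra.IsIntegral.isIntegral z).map _
    haveI : Algebra.IsIntegral K ((Spec (CommRingCat.of K)).presheaf.stalk y) :=
      Algebra.IsIntegral.of_surjective (Algebra.ofId K _) hst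
    exact isIntegral_trans _ hi
  let e : pullback f (Hens2.specOf (Spec (CommRingCat.of K)) y R) ≅ Spec (CommRingCat.of (K1 ⊗[K] R)) :=
    pullback.congrHom (rfl : f = _) (show Hens2.specOf (Spec (CommRingCat.of K)) y R =
        Spec.map (CommRingCat.ofHom (algebraMap K R)) by
      rw [Hens2.specOf, Spec.fromSpecStalk_eq', ← Spec.map_comp]
      rfl) ≪≫ pullbackSpecIso K K1 R
  haveI : IsNoetherianRing (K1 ⊗[K] R) := isNoetherianRing_tensor K K1 R t hgen
  refine cdLEAt_of_isIntegralHom hℓ e.hom ?_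
  have hmax : ∀ p : PrimeSpectrum (K1 ⊗[K] R), p.asIdeal.IsMaximal := fun p =>
    Ideal.isMaximal_of_isIntegral_of_isMaximal_comap (R := K1) p.asIdeal (by
      suffices h : p.asIdeal.comap (algebraMap K1 (K1 ⊗[K] R)) = ⊥ by rw [h]; exact Ideal.bot_isMaximal
      refine eq_bot_iff.2 fun a ha => ?_
      refine (Submodule.mem_bot K1).2 (by_contra fun h0 => ?_)
      exact p.2.ne_top (p.asIdeal.eq_top_of_isUnit_mem ha ((Ne.isUnit h0).map _)))
  refine cdLEAt_of_points hℓ (fun p => (PrimeSpectrum.isClosed_singleton_iff_isMaximal p).2 (hmax p)) fun p => ?_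
  haveI : p.asIdeal.IsMaximal := hmax p
  have hcd : Dix.CohDimLEAt (Spec (CommRingCat.of p.asIdeal.ResidueField)) ℓ 1 := fun F hF =>
    trdeg_le_one K K1 R htr p.asIdeal.ResidueField (q := p.asIdeal) (hq := Ideal.ker_algebraMap_residueField _)
      (hsurj := Ideal.algebraMap_residueField_surjective p.asIdeal) F (isTorsion_of_primary hℓ hF)
  exact cdLEAt_of_isIntegralHom hℓ (Spec.map (Scheme.Spec.residueFieldIso (CommRingCat.of (K1 ⊗[K] R)) p).inv) hcd

end Groth.Agent.CdDim
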