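import Groth.Agent.CdDim.Dim
import Groth.Agent.CdDim.FieldExt
import Groth.Agent.VarDim.Fibre

/-! finite cohomological dimension of schemes of finite type over a field -/

universe u

open CategoryTheory CategoryTheory.Limits AlgebraicGeometry Opposite

namespace Groth.Agent.CdDim

set_option autoImplicit false
set_option maxHeartbeats 1000000
set_option synthInstance.maxHeartbeats 400000
set_option backward.isDefEq.respectTransparency false
set_option backward.isDefEq.respectTransparency.types false
set_option linter.style.haveILetI false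

variable {X : Scheme.{u}} {K : Type u} [Field K] (f : X ⟶ Spec (CommRingCat.of K)) [LocallyOfFiniteType f]

include f in
/-- the residue fields of a scheme of finite type -/
theorem cdLEAt_residueField {ℓ : ℕ} (hℓ : ℓ.Prime) {e : ℕ} (hK : Dix.CohDimLEAt (Spec (CommRingCat.of K)) ℓ e)
    (x : X) : Dix.CohDimLEAt (Spec (X.residueField x)) ℓ (e + VarDim.deg f x) := by
  letI : Algebra K (X.residueField x) := (VarDim.resHom f x).toAlgebra
  exact cdLEAt_field_ext hℓ (VarDim.deg f x) K (X.residueField x) e (VarDim.deg_eq_tdeg f x).ge hK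

include f in
theorem finite_cd [QuasiCompact f] {e : ℕ} (hK : EtCoh.CohDimLE (Spec (CommRingCat.of K)) e) :
    ∃ d : ℕ, EtCoh.CohDimLE X d := by
  haveI : IsLocallyNoetherian X := LocallyOfFiniteType.isLocallyNoetherian f
  haveI : CompactSpace X := QuasiCompact.compactSpace_of_compactSpace f
  haveI : IsNoetherian X := { }
  obtain ⟨N, hN⟩ : ∃ N : ℕ, ∀ x : X, VarDim.deg f x ≤ N := by
    rcases isEmpty_or_nonempty X with h | h
    · exact ⟨0, fun x => isEmptyElim x⟩
    · obtain ⟨η, -, hη, -⟩ := VarDim.exists_deg_eq_topologicalKrullDim (p := f)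
      exact ⟨_, hη⟩
  refine ⟨(N + 1) * (e + N + 1), cohDimLE_of_forall fun ℓ hℓ => fun F hF q hq => ?_⟩
  have hKl := cohDimLEAt_of_cohDimLE hK ℓ hℓ
  refine subsingleton_H_of_dimension_function hℓ (fun x => (VarDim.deg f x + 1) * (e + N + 1))
    (fun x => fun G hG n hn => ?_) (fun x y hxy hne R _ _ _ _ _ P hP => ?_) q F hF (fun x _ => ?_)
  · refine cdLEAt_residueField f hℓ hKl x G hG n (lt_of_le_of_lt ?_ hn)
    have := Nat.mul_le_mul_left (VarDim.deg f x + 1) (Nat.le_add_left 1 (e + N))
    nlinarith [hN x]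
  · refine ⟨e + VarDim.deg f x, ?_, cdLEAt_fractionRing hℓ hxy R P hP (cdLEAt_residueField f hℓ hKl x)⟩
    have hlt : VarDim.deg f y < VarDim.deg f x := VarDim.deg_strictMono f
      (lt_iff_le_not_ge.2 ⟨hxy, fun h => hne (Specializes.antisymm hxy (h : y ⤳ x)).eq⟩)
    show e + VarDim.deg f x + 1 + (VarDim.deg f y + 1) * (e + N + 1) ≤ (VarDim.deg f x + 1) * (e + N + 1)
    nlinarith [hN x, hlt]
  · refine lt_of_le_of_lt ?_ hq
    show (VarDim.deg f x + 1) * (e + N + 1) ≤ _
    exact Nat.mul_le_mul_right _ (by have := hN x; omega)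

end Groth.Agent.CdDim
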