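import Groth.Agent.BigSiteLib.HofPushEt
import Groth.Agent.S14451
import Groth.Agent.EtContLib.ThenOps
import Groth.Agent.GalTorLib.Basic

/-! vanishing of the cohomology of a direct image in one degree -/

universe u

open CategoryTheory CategoryTheory.Limits AlgebraicGeometry Opposite CategoryTheory.Abelian

namespace Groth.Agent.CdDim

set_option autoImplicit false
set_option maxHeartbeats 1000000
set_option synthInstance.maxHeartbeats 400000
set_option backward.isDefEq.respectTransparency false
set_option backward.isDefEq.respectTransparency.types false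
set_option linter.style.haveILetI false

variable {X Y : Scheme.{u}} (f : X ⟶ Y) [EtCoh.BCCont f]

theorem subsingleton_H_of_iso' {A B : EtCoh.Ab Y} (e : A ≅ B) (q : ℕ) (h : Subsingleton (EtCoh.H Y A q)) :
    Subsingleton (EtCoh.H Y B q) :=
  AddCommGrpCat.subsingleton_of_isZero
    ((@AddCommGrpCat.isZero_of_subsingleton ((EtCoh.HF Y q).obj A) h).of_iso ((EtCoh.HF Y q).mapIso e).symm)

/-- a direct image has no cohomology in a degree where the sheaf has none and the higher direct images do not
contribute -/
theorem subsingleton_H_push : ∀ (n : ℕ) (G : EtCoh.Ab X), Subsingleton (EtCoh.H X G (n + 1)) →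
    (∀ b m : ℕ, 1 ≤ b → b + m = n → Subsingleton (EtCoh.H Y ((EtCoh.Rpush f b).obj G) m)) →
    Subsingleton (EtCoh.H Y ((EtCoh.push f).obj G) (n + 1)) := by
  haveI : PreservesFiniteLimits (EtCoh.push f) :=
    haveI := (EtCoh.pullPushAdj f).rightAdjoint_preservesLimits
    PreservesLimitsOfSize.preservesFiniteLimits.{0, 0} _
  haveI : (EtCoh.pull f).IsLeftAdjoint := (EtCoh.pullPushAdj f).isLeftAdjoint
  haveI : (EtCoh.pull f).Additive := (EtCoh.pullPushAdj f).left_adjoint_additive
  haveI := EtContLib.pfl f
  intro n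
  induction n using Nat.strong_induction_on with
  | _ n ih =>
    intro G hG hR
    let E := ShortComplex.mk (Injective.ι G) (cokernel.π _) (cokernel.condition (Injective.ι G))
    have hE : E.ShortExact := { exact := ShortComplex.exact_of_g_is_cokernel _ (cokernelIsCokernel _) }
    haveI : Injective E.X₂ := inferInstanceAs (Injective (Injective.under G))
    let P := EtCoh.push f
    haveI : Injective (P.obj E.X₂) := Injective.injective_of_adjoint (EtCoh.pullPushAdj f) E.X₂
    let a := P.map E.g
    haveI : Mono E.f := hE.mono_f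
    have hker : (ShortComplex.mk (P.map E.f) (factorThruImage a) ((cancel_mono (Limits.image.ι a)).1
        ((Category.assoc _ _ _).trans ((congrArg (P.map E.f ≫ ·) (Limits.image.fac a)).trans
          (((P.map_comp _ _).symm.trans ((congrArg P.map E.zero).trans (P.map_zero _ _))).trans
            zero_comp.symm))))).ShortExact :=
      haveI : Mono (P.map E.f) := inferInstance
      { exact := by
          haveI : Mono (E.map P).f := inferInstanceAs (Mono (P.map E.f))
          have h0 : (E.map P).Exact := (hE.exact.map_of_mono_of_preservesKernel P hE.mono_f inferInstance)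
          refine ShortComplex.exact_of_f_is_kernel _ (KernelFork.IsLimit.ofι' _ _ fun {W} k hk => ?_)
          have hk' : k ≫ a = 0 := (congrArg (k ≫ ·) (Limits.image.fac a)).symm.trans
            ((Category.assoc _ _ _).symm.trans ((congrArg (· ≫ Limits.image.ι a) hk).trans zero_comp))
          exact KernelFork.IsLimit.lift' h0.fIsKernel k hk' }
    refine subsingleton_of_forall_eq 0 fun x => ?_
    obtain ⟨z, rfl⟩ := Ext.covariant_sequence_exact₁ _ hker x (Ext.eq_zero_of_injective _) (rfl : n + 1 = _)
    rcases n with _ | n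
    · -- degree one
      let i := (EtCore.pullConst f ℤ).inv
      have hb := fun F => BigSiteLib.HofBij.hof_bijective_zero (EtCoh.pullPushAdj f) i inferInstance F
      let v := BigSiteLib.HofBij.hof (EtCoh.pullPushAdj f) i E.X₃ 0 (z.comp (Ext.mk₀ (Limits.image.ι a)) (add_zero 0))
      obtain ⟨w, hw⟩ := Ext.covariant_sequence_exact₃ _ hE v (n₁ := 1) rfl (@Subsingleton.elim _ hG _ _)
      obtain ⟨w', hw'⟩ := (hb E.X₂).2 w
      have h1 : z.comp (Ext.mk₀ (Limits.image.ι a)) (add_zero 0) = w'.comp (Ext.mk₀ a) (add_zero 0) :=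
        (hb E.X₃).1 ((hw.symm.trans (congrArg (fun t => Ext.comp t (Ext.mk₀ E.g) (add_zero 0)) hw'.symm)).trans
          (BigSiteLib.HofBij.hof_natural (EtCoh.pullPushAdj f) i E.g 0 w').symm)
      obtain ⟨φ, rfl⟩ := (Ext.mk₀_bijective _ _).2 z
      obtain ⟨ψ, rfl⟩ := (Ext.mk₀_bijective _ _).2 w'
      rw [Ext.mk₀_comp_mk₀, Ext.mk₀_comp_mk₀] at h1
      have h2 : φ = ψ ≫ factorThruImage a := (cancel_mono (Limits.image.ι a)).1
        (((Ext.mk₀_bijective _ _).1 h1).trans
          ((congrArg (ψ ≫ ·) (Limits.image.fac a)).symm.trans (Category.assoc _ _ _).symm))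
      rw [h2, ← Ext.mk₀_comp_mk₀, Ext.comp_assoc_of_second_deg_zero, hker.comp_extClass, Ext.comp_zero]
    · have hcok : (ShortComplex.mk (Limits.image.ι a) (cokernel.π a) (by
          rw [← cancel_epi (factorThruImage a), Limits.image.fac_assoc, cokernel.condition, comp_zero])).ShortExact :=
        { exact := ShortComplex.exact_of_g_is_cokernel _ (CokernelCofork.IsColimit.ofπ' _ _ fun {W} k hk =>
            ⟨cokernel.desc a k (by rw [← Limits.image.fac a, Category.assoc, hk, comp_zero]), cokernel.π_desc _ _ _⟩) }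
      letI := HasDerivedCategory.standard (EtCoh.Ab X)
      letI := HasDerivedCategory.standard (EtCoh.Ab Y)
      have hQ : Subsingleton (EtCoh.H Y (P.obj E.X₃) (n + 1)) := by
        refine ih n (by omega) E.X₃ (subsingleton_of_forall_eq 0 fun w => ?_) fun b m hb hbm => ?_
        · obtain ⟨w', rfl⟩ := Ext.covariant_sequence_exact₃ _ hE w (rfl : n + 1 + 1 = _)
            (@Subsingleton.elim _ hG _ _)
          rw [Ext.eq_zero_of_injective w', Ext.zero_comp]
        · obtain ⟨δ, w₁, w₂, w₃, -, e₂, e₃⟩ := TriCat.exists_rightDerived_ses (EtCoh.push f) hE b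
          have hz : ∀ j, 0 < j → IsZero (((EtCoh.push f).rightDerived j).obj E.X₂) :=
            TriCat.isRightAcyclic_of_injective _
          haveI : Mono δ := e₂.mono_g ((hz b hb).eq_of_src _ _)
          haveI : Epi δ := e₃.epi_f ((hz (b + 1) (by omega)).eq_of_tgt _ _)
          haveI : IsIso δ := isIso_of_mono_of_epi δ
          exact subsingleton_H_of_iso' (asIso δ).symm m (hR (b + 1) m (by omega) (by omega))
      have hC : Subsingleton (EtCoh.H Y (cokernel a) n) := by
        obtain ⟨δ, w₁, w₂, w₃, -, e₂, e₃⟩ := TriCat.exists_rightDerived_ses (EtCoh.push f) hE 0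
        haveI : Epi δ := e₃.epi_f ((TriCat.isRightAcyclic_of_injective (F := EtCoh.push f) E.X₂ 1 one_pos).eq_of_tgt _ _)
        let c0 := (cokernelIsCokernel ((EtCoh.Rpush f 0).map E.g)).coconePointUniqueUpToIso e₂.gIsCokernel
        let c1 : cokernel ((EtCoh.Rpush f 0).map E.g) ≅ cokernel a :=
          cokernel.mapIso _ _ ((EtCoh.push f).rightDerivedZeroIsoSelf.app _) ((EtCoh.push f).rightDerivedZeroIsoSelf.app _)
            ((EtCoh.push f).rightDerivedZeroIsoSelf.hom.naturality E.g)
        exact subsingleton_H_of_iso' (c0.symm ≪≫ c1) n (hR 1 n le_rfl (by omega))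
      have hI : Subsingleton (EtCoh.H Y (Limits.image a) (n + 1)) := subsingleton_of_forall_eq 0 fun w => by
        obtain ⟨w', rfl⟩ := Ext.covariant_sequence_exact₁ _ hcok w (@Subsingleton.elim _ hQ _ _) rfl
        rw [@Subsingleton.elim _ hC w' 0, Ext.zero_comp]
      rw [@Subsingleton.elim _ hI z 0, Ext.zero_comp]

end Groth.Agent.CdDim
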