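import Groth.Agent.CdDim.Fibre
import Groth.Agent.CdDim.PushDegree
import Groth.Agent.S0620
import Groth.Agent.S0073
import Groth.Agent.Hensel.Henselization

/-! cohomology and dimension functions -/

universe u

open CategoryTheory CategoryTheory.Limits AlgebraicGeometry Opposite

namespace Groth.Agent.CdDim

set_option autoImplicit false
set_option maxHeartbeats 1000000
set_option synthInstance.maxHeartbeats 400000
set_option backward.isDefEq.respectTransparency false
set_option backward.isDefEq.respectTransparency.types false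
set_option linter.style.haveILetI false

variable {X : Scheme.{u}}

theorem subsingleton_H_of_isEmpty {W : Scheme.{u}} [IsEmpty W] (F : EtCoh.Ab W) (q : ℕ) :
    Subsingleton (EtCoh.H W F q) :=
  CurveCd.subsingleton_H_of_supp (fun w _ => isEmptyElim w) q

/-- strict henselizations of the local rings exist -/
theorem exists_strictLocalization (y : X) :
    ∃ (R : Type u) (_ : CommRing R) (_ : IsLocalRing R) (_ : Algebra (X.presheaf.stalk y) R)
      (_ : IsLocalHom (algebraMap (X.presheaf.stalk y) R)),
      Hensel.IsStrictHenselization (X.presheaf.stalk y) R :=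
  ⟨Hensel.StrictHenz (X.presheaf.stalk y), inferInstance, inferInstance, inferInstance, inferInstance, inferInstance⟩

section

variable (x y : X) (R : Type u) [CommRing R] [IsLocalRing R] [Algebra (X.presheaf.stalk y) R]
  [IsLocalHom (algebraMap (X.presheaf.stalk y) R)]

theorem geomPt_apply : (Hens2.geomPt X y R).base (default : Spec (CommRingCat.of (IsLocalRing.ResidueField R))) = y := by
  have h : (Spec.map (CommRingCat.ofHom (IsLocalRing.residue R))).base
      (default : Spec (CommRingCat.of (IsLocalRing.ResidueField R))) = IsLocalRing.closedPoint R :=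
    IsLocalRing.PrimeSpectrum.comap_residue R _
  show (X.fromSpecStalk y).base ((Spec.map (CommRingCat.ofHom (algebraMap (X.presheaf.stalk y) R))).base
    ((Spec.map (CommRingCat.ofHom (IsLocalRing.residue R))).base
      (default : Spec (CommRingCat.of (IsLocalRing.ResidueField R))))) = y
  rw [h]
  refine (congrArg (X.fromSpecStalk y).base ?_).trans Scheme.fromSpecStalk_closedPoint
  exact IsLocalRing.comap_closedPoint _

theorem minimalPrimes_nonempty (h : x ⤳ y) :
    ∃ P, P ∈ ((RingHom.ker (Cyc.specMap y x h)).map (algebraMap (X.presheaf.stalk y) R)).minimalPrimes := by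
  refine nonempty_subtype.1 (Ideal.nonempty_minimalPrimes (I := (RingHom.ker (Cyc.specMap y x h)).map (algebraMap (X.presheaf.stalk y) R)) fun htop => ?_)
  have hle : (RingHom.ker (Cyc.specMap y x h)).map (algebraMap (X.presheaf.stalk y) R) ≤ IsLocalRing.maximalIdeal R := by
    refine Ideal.map_le_iff_le_comap.2 ?_
    rw [IsLocalRing.maximalIdeal_comap (algebraMap (X.presheaf.stalk y) R)]
    exact IsLocalRing.le_maximalIdeal (RingHom.ker_ne_top _)
  rw [htop, top_le_iff] at hle
  exact (IsLocalRing.maximalIdeal.isMaximal R).ne_top hle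

variable [Hensel.IsStrictHenselization (X.presheaf.stalk y) R]

include x in
/-- vanishing of a stalk of a higher direct image from a point -/
theorem notMem_supp_Rpush [QuasiCompact (X.fromSpecResidueField x)] [QuasiSeparated (X.fromSpecResidueField x)]
    (G : EtCoh.Ab (Spec (X.residueField x))) (b : ℕ)
    (h : Subsingleton (EtCoh.H (pullback (X.fromSpecResidueField x) (Hens2.specOf X y R))
      ((EtCoh.pull (pullback.fst (X.fromSpecResidueField x) (Hens2.specOf X y R))).obj G) b)) :
    y ∉ EtPBC.supp ((EtCoh.Rpush (X.fromSpecResidueField x) b).obj G) := by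
  haveI : IsSepClosed (IsLocalRing.ResidueField R) :=
    (Hensel.IsStrictHenselization.isSepClosure (R := X.presheaf.stalk y) (S := R)).sep_closed
  let A := (EtCoh.Rpush (X.fromSpecResidueField x) b).obj G
  obtain ⟨e⟩ := Groth.Agent.S0620.result (X.fromSpecResidueField x) G y R b
  have h0 : IsZero ((EtCoh.stalk (Hens2.geomPt X y R)).obj A) :=
    (@AddCommGrpCat.isZero_of_subsingleton _ h).of_iso e
  have hpull : IsZero ((EtCoh.pull (Hens2.geomPt X y R)).obj A) := (EtFound.isZero_iff_stalks _).2 fun Ω _ _ z =>
    (h0.of_iso ((EtFound.stalkExtIso AddCommGrpCat.{u + 1} (Hens2.geomPt X y R) z).app A).symm).of_iso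
      ((EtFound.sheafFiberPullIso (A := AddCommGrpCat.{u + 1}) (Hens2.geomPt X y R) z).app A)
  intro hy
  obtain ⟨Ω, _, _, ξ, hξ, hz⟩ := CurveCd.mem_of_supp hy
  exact hz (CurveCd.isZero_stalk_of_pull (Hens2.geomPt X y R) A hpull ξ ⟨_, (geomPt_apply y R).trans hξ.symm⟩)

/-- over the point itself the fibre is strictly henselian -/
theorem subsingleton_H_fibre_self (y : X) (R : Type u) [CommRing R] [IsLocalRing R] [Algebra (X.presheaf.stalk y) R]
    [IsLocalHom (algebraMap (X.presheaf.stalk y) R)] [Hensel.IsStrictHenselization (X.presheaf.stalk y) R]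
    (G : EtCoh.Ab (pullback (X.fromSpecResidueField y) (Hens2.specOf X y R))) (b : ℕ) (hb : 1 ≤ b) :
    Subsingleton (EtCoh.H (pullback (X.fromSpecResidueField y) (Hens2.specOf X y R)) G b) := by
  haveI : IsSepClosed (IsLocalRing.ResidueField R) :=
    (Hensel.IsStrictHenselization.isSepClosure (R := X.presheaf.stalk y) (S := R)).sep_closed
  haveI : HenselianLocalRing R := Hensel.IsStrictHenselization.henselian (R := X.presheaf.stalk y)
  let f : Spec (X.residueField y) ⟶ Spec (X.presheaf.stalk y) := Spec.map (X.residue y)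
  let g : Spec (CommRingCat.of R) ⟶ Spec (X.presheaf.stalk y) :=
    Spec.map (CommRingCat.ofHom (algebraMap (X.presheaf.stalk y) R))
  haveI : IsClosedImmersion f := IsClosedImmersion.spec_of_surjective _ (X.residue_surjective y)
  haveI : IsClosedImmersion (pullback.snd f g) := inferInstance
  have hpb : IsPullback (pullback.fst f g) (pullback.snd f g) (X.fromSpecResidueField y) (Hens2.specOf X y R) := by
    refine IsPullback.of_isLimit' ⟨(Category.assoc _ _ _).symm.trans
      ((eq_whisker (pullback.condition (f := f) (g := g)) (X.fromSpecStalk y)).trans (Category.assoc _ _ _))⟩ ?_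
    exact PullbackCone.isLimitOfCompMono f g (X.fromSpecStalk y) (PullbackCone.mk _ _ pullback.condition) (pullbackIsPullback f g)
  let i := pullback.snd (X.fromSpecResidueField y) (Hens2.specOf X y R)
  haveI : IsClosedImmersion i := by
    have : i = hpb.isoPullback.inv ≫ pullback.snd f g := (hpb.isoPullback_inv_snd).symm
    rw [this]
    infer_instance
  haveI := EtContLib.pfl i
  haveI := Groth.Agent.S0073.result R ((EtCoh.push i).obj G) b hb
  exact (Groth.Agent.S14451.result i G (fun q hq => Groth.Agent.S3054.result i G q hq) b).2.subsingleton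

end

variable {ℓ : ℕ}

/-- the bound given by a dimension function -/
theorem subsingleton_H_of_dimension_function [IsNoetherian X] (hℓ : ℓ.Prime) (φ : X → ℕ)
    (h1 : ∀ x : X, Dix.CohDimLEAt (Spec (X.residueField x)) ℓ (φ x))
    (h2 : ∀ (x y : X) (hxy : x ⤳ y), x ≠ y →
      ∀ (R : Type u) [CommRing R] [IsLocalRing R] [Algebra (X.presheaf.stalk y) R]
      [IsLocalHom (algebraMap (X.presheaf.stalk y) R)] [Hensel.IsStrictHenselization (X.presheaf.stalk y) R],
      ∀ P ∈ ((RingHom.ker (Cyc.specMap y x hxy)).map (algebraMap (X.presheaf.stalk y) R)).minimalPrimes,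
        ∃ d : ℕ, d + 1 + φ y ≤ φ x ∧ Dix.CohDimLEAt (Spec (CommRingCat.of (FractionRing (R ⧸ P)))) ℓ d) :
    ∀ (q : ℕ) (F : EtCoh.Ab X), Dix.IsPrimaryTorsion ℓ F → (∀ x ∈ EtPBC.supp F, φ x < q) →
      Subsingleton (EtCoh.H X F q) := by
  have hlt : ∀ x y : X, x ⤳ y → x ≠ y → φ y < φ x := fun x y hxy hne => by
    obtain ⟨R, _, _, _, _, _⟩ := exists_strictLocalization y
    obtain ⟨P, hP⟩ := minimalPrimes_nonempty x y R hxy
    obtain ⟨d, hd, -⟩ := h2 x y hxy hne R P hP
    omega
  intro q
  induction q using Nat.strong_induction_on with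
  | _ q ih =>
    intro F hF hs
    rcases q with _ | i
    · exact CurveCd.subsingleton_H_of_supp (fun x hx => absurd (hs x hx) (Nat.not_lt_zero _)) 0
    refine CurveCd.devissage (Dix.IsPrimaryTorsion ℓ) (fun F T hF => primary_suppSub F T hF)
      (fun F y hF => primary_of_mono (kernel.ι (CurveCd.ptUnit y F)) hF) i {x | φ x < i + 1}
      (fun x hx G hG => ?_) (fun x hx G hG => ?_) (fun z w hzw hz => ?_) F hF hs
    · have hG' : Dix.IsPrimaryTorsion ℓ ((EtCoh.pull (CurveCd.ptMor x)).obj G) := primary_pull hℓ _ G hG
      refine subsingleton_H_push (CurveCd.ptMor x) i _ (h1 x _ hG' (i + 1) hx) fun b m hb hbm => ?_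
      refine ih m (by omega) _ (primary_Rpush hℓ _ _ hG' b) fun w hw => ?_
      by_contra hm
      obtain ⟨R, _, _, _, _, _⟩ := exists_strictLocalization w
      refine notMem_supp_Rpush x w R _ b ?_ hw
      by_cases hxw : x ⤳ w
      · rcases eq_or_ne x w with rfl | hne
        · exact subsingleton_H_fibre_self x R _ b hb
        · refine cdLEAt_fibre_of_minimalPrimes x w R hℓ hxw (d := b - 1) (fun P hP => ?_) _
            (primary_pull hℓ _ _ hG') b (by omega)
          obtain ⟨d, hd, hcd⟩ := h2 x w hxw hne R P hP
          have hx' : φ x < i + 1 := hx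
          exact fun G hG q hq => hcd G hG q (by omega)
      · haveI := isEmpty_fibre x w R hxw
        exact subsingleton_H_of_isEmpty _ b
    · have hC : Dix.IsPrimaryTorsion ℓ (cokernel (CurveCd.ptUnit x G)) :=
        primary_of_epi hℓ (cokernel.π (CurveCd.ptUnit x G)) (primary_push hℓ _ _ (primary_pull hℓ _ G hG))
      refine ih i (by omega) _ hC fun w hw => ?_
      obtain ⟨hw1, hw2⟩ := CurveCd.supp_cokernel_unit x G hw
      have h := hlt x w (specializes_iff_mem_closure.2 hw1) fun e => hw2 (Set.mem_singleton_iff.2 e.symm)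
      have hx' : φ x < i + 1 := hx
      omega
    · rcases eq_or_ne z w with rfl | hne
      · exact hz
      · exact lt_trans (hlt z w hzw hne) hz

end Groth.Agent.CdDim
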