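import Groth.Agent.CurveCd.Devissage
import Groth.Agent.EtPBC0.AcycComp
import Groth.Agent.S8525
import Groth.Agent.S8560
import Groth.Agent.S3054
import Groth.Agent.S14451
import Groth.Prelude.Def_Dix

/-! primary torsion sheaves and cohomological dimension -/

universe u

open CategoryTheory CategoryTheory.Limits AlgebraicGeometry Opposite

namespace Groth.Agent.CdDim

set_option autoImplicit false
set_option maxHeartbeats 1000000
set_option synthInstance.maxHeartbeats 400000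
set_option backward.isDefEq.respectTransparency false
set_option backward.isDefEq.respectTransparency.types false
set_option linter.style.haveILetI false

variable {X Y : Scheme.{u}} {ℓ : ℕ}

theorem primary_iff (hℓ : ℓ.Prime) (F : EtCoh.Ab X) :
    Dix.IsPrimaryTorsion ℓ F ↔ EtAcyc.IsLTorsion {ℓ} F := by
  constructor
  · intro h U s x
    obtain ⟨V, g, hv, k, hk⟩ := h U s x
    exact ⟨V, g, ℓ ^ k, hv, ⟨pow_pos hℓ.pos k, fun p hp hd =>
      Set.mem_singleton_iff.2 ((Nat.prime_dvd_prime_iff_eq hp hℓ).1 (hp.dvd_of_dvd_pow hd))⟩, hk⟩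
  · intro h U s x
    obtain ⟨V, g, m, hv, hm, hk⟩ := h U s x
    refine ⟨V, g, hv, m.primeFactorsList.length, ?_⟩
    rw [← Nat.eq_prime_pow_of_unique_prime_dvd hm.1.ne' (fun hp hd => Set.mem_singleton_iff.1 (hm.2 _ hp hd))]
    exact hk

theorem primary_of_mono {A F : EtCoh.Ab X} (a : A ⟶ F) [Mono a] (hF : Dix.IsPrimaryTorsion ℓ F) :
    Dix.IsPrimaryTorsion ℓ A := by
  intro U s x
  obtain ⟨V, g, hv, k, hk⟩ := hF U (a.hom.app (op U) s) x
  haveI : Mono a.hom := (sheafToPresheaf _ AddCommGrpCat.{u + 1}).map_mono a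
  have hi : Function.Injective (a.hom.app (op V)) := (AddCommGrpCat.mono_iff_injective _).1 inferInstance
  refine ⟨V, g, hv, k, hi ((map_nsmul (a.hom.app (op V)).hom _ _).trans (Eq.trans ?_ (map_zero _).symm))⟩
  refine (congrArg (fun t => ℓ ^ k • t) (NatTrans.naturality_apply a.hom g.op s)).trans hk

theorem primary_of_epi (hℓ : ℓ.Prime) {A F : EtCoh.Ab X} (a : F ⟶ A) [Epi a] (hF : Dix.IsPrimaryTorsion ℓ F) :
    Dix.IsPrimaryTorsion ℓ A := by
  rw [primary_iff hℓ, Groth.Agent.S8525.result] at hF ⊢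
  intro Ω _ _ ξ t
  obtain ⟨s, rfl⟩ := (AddCommGrpCat.epi_iff_surjective ((EtCoh.stalk ξ).map a)).1 inferInstance t
  obtain ⟨m, hm, h0⟩ := hF Ω ξ s
  exact ⟨m, hm, by rw [← map_nsmul, h0, map_zero]⟩

theorem primary_suppSub (F : EtCoh.Ab X) (T : Set X) (hF : Dix.IsPrimaryTorsion ℓ F) :
    Dix.IsPrimaryTorsion ℓ (CurveCd.suppSub F T) := primary_of_mono (CurveCd.suppIncl F T) hF

theorem primary_pull (hℓ : ℓ.Prime) (f : Y ⟶ X) (F : EtCoh.Ab X) (hF : Dix.IsPrimaryTorsion ℓ F) :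
    Dix.IsPrimaryTorsion ℓ ((EtCoh.pull f).obj F) :=
  (primary_iff hℓ _).2 (EtPBC0.AcycComp.isLTorsion_pull f _ F ((primary_iff hℓ F).1 hF))

theorem primary_Rpush (hℓ : ℓ.Prime) (f : X ⟶ Y) [QuasiCompact f] [QuasiSeparated f] [EtCoh.BCCont f]
    (F : EtCoh.Ab X) (hF : Dix.IsPrimaryTorsion ℓ F) (q : ℕ) :
    Dix.IsPrimaryTorsion ℓ ((EtCoh.Rpush f q).obj F) :=
  (primary_iff hℓ _).2 (Groth.Agent.S8560.result f _ F ((primary_iff hℓ F).1 hF) q)

theorem primary_push (hℓ : ℓ.Prime) (f : X ⟶ Y) [QuasiCompact f] [QuasiSeparated f]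
    (F : EtCoh.Ab X) (hF : Dix.IsPrimaryTorsion ℓ F) :
    Dix.IsPrimaryTorsion ℓ ((EtCoh.push f).obj F) := by
  haveI : PreservesFiniteLimits (EtCoh.push f) :=
    haveI := (EtCoh.pullPushAdj f).rightAdjoint_preservesLimits
    PreservesLimitsOfSize.preservesFiniteLimits.{0, 0} _
  let e := (Functor.rightDerivedZeroIsoSelf (EtCoh.push f)).app F
  exact primary_of_mono e.inv (primary_Rpush hℓ f F hF 0)

/-- cohomological dimension along integral morphisms -/
theorem cdLEAt_of_isIntegralHom (hℓ : ℓ.Prime) (f : X ⟶ Y) [IsIntegralHom f] {d : ℕ}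
    (h : Dix.CohDimLEAt Y ℓ d) : Dix.CohDimLEAt X ℓ d := by
  intro F hF q hq
  haveI := EtContLib.pfl f
  haveI := h _ (primary_push hℓ f F hF) q hq
  exact (Groth.Agent.S14451.result f F (fun i hi => Groth.Agent.S3054.result f F i hi) q).2.subsingleton

/-- noetherian schemes all of whose points are closed -/
theorem cdLEAt_of_points (hℓ : ℓ.Prime) [IsNoetherian X] (hcl : ∀ x : X, IsClosed ({x} : Set X)) {d : ℕ}
    (h : ∀ x : X, Dix.CohDimLEAt (Spec (X.residueField x)) ℓ d) : Dix.CohDimLEAt X ℓ d := by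
  intro F hF q hq
  obtain ⟨i, rfl⟩ : ∃ i, q = i + 1 := ⟨q - 1, by omega⟩
  refine CurveCd.devissage (Dix.IsPrimaryTorsion ℓ) (fun F T hF => primary_suppSub F T hF)
    (fun F y hF => primary_of_mono (kernel.ι (CurveCd.ptUnit y F)) hF) i Set.univ (fun y _ G hG => ?_) (fun y _ G _ => ?_)
    (fun _ _ _ _ => trivial) F hF (Set.subset_univ _)
  · haveI : IsClosedImmersion (CurveCd.ptMor y) := isClosed_singleton_iff_isClosedImmersion.1 (hcl y)
    haveI := EtContLib.pfl (CurveCd.ptMor y)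
    haveI := h y _ (primary_pull hℓ (CurveCd.ptMor y) G hG) (i + 1) hq
    exact (Groth.Agent.S14451.result (CurveCd.ptMor y) _
      (fun p hp => Groth.Agent.S3054.result (CurveCd.ptMor y) _ p hp) (i + 1)).1.subsingleton
  · refine CurveCd.subsingleton_H_of_supp ((CurveCd.supp_cokernel_unit y G).trans ?_) i
    rw [(hcl y).closure_eq, sdiff_self]
    exact subset_rfl

end Groth.Agent.CdDim
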