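import Groth.Agent.CdDim.StalkOver

/-! relative cohomological dimension over a field -/

universe u

open CategoryTheory CategoryTheory.Limits AlgebraicGeometry Opposite

namespace Groth.Agent.CdDim

set_option autoImplicit false
set_option maxHeartbeats 1000000
set_option synthInstance.maxHeartbeats 400000
set_option backward.isDefEq.respectTransparency false
set_option backward.isDefEq.respectTransparency.types false
set_option linter.style.haveILetI false

/-- morphisms of schemes of finite type over any field have finite cohomological dimension -/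
theorem exists_relCohDimLE {k : Type u} [Field k] {X Y : Scheme.{u}}
    (a : X ⟶ Spec (CommRingCat.of k)) (b : Y ⟶ Spec (CommRingCat.of k))
    [LocallyOfFiniteType a] [QuasiCompact a] [LocallyOfFiniteType b] [QuasiCompact b]
    (f : X ⟶ Y) (w : f ≫ b = a) [EtCoh.BCCont f] : ∃ d : ℕ, EtCoh.RelCohDimLE f d := by
  haveI : IsLocallyNoetherian Y := LocallyOfFiniteType.isLocallyNoetherian b
  haveI : IsLocallyNoetherian X := LocallyOfFiniteType.isLocallyNoetherian a
  haveI : CompactSpace X := QuasiCompact.compactSpace_of_compactSpace a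
  haveI : CompactSpace Y := QuasiCompact.compactSpace_of_compactSpace b
  haveI : IsNoetherian X := { }
  haveI : IsNoetherian Y := { }
  haveI : LocallyOfFiniteType (f ≫ b) := by rw [w]; infer_instance
  haveI : LocallyOfFiniteType f := locallyOfFiniteType_of_comp f b
  haveI : QuasiCompact (f ≫ terminal.from Y) := inferInstance
  haveI : QuasiCompact f := QuasiCompact.of_comp f (terminal.from Y)
  haveI : QuasiSeparated f := inferInstance
  obtain ⟨N, hN⟩ : ∃ N : ℕ, ∀ x : X, VarDim.deg a x ≤ N := by
    rcases isEmpty_or_nonempty X with h | h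
    · exact ⟨0, fun x => isEmptyElim x⟩
    · obtain ⟨η, -, hη, -⟩ := VarDim.exists_deg_eq_topologicalKrullDim (p := a)
      exact ⟨_, hη⟩
  refine ⟨(N + 1) * (N + 1), fun F hF q hq => (EtFound.isZero_iff_stalks _).2 fun Ω _ _ ξ => ?_⟩
  let y := ξ.base (default : Spec (CommRingCat.of Ω))
  obtain ⟨R, _, _, _, _, _⟩ := exists_strictLocalization y
  haveI : IsSepClosed (IsLocalRing.ResidueField R) :=
    (Hensel.IsStrictHenselization.isSepClosure (R := Y.presheaf.stalk y) (S := R)).sep_closed
  haveI : IsNoetherianRing R := (Groth.Agent.S0540.result (Y.presheaf.stalk y) R).1 inferInstance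
  let W := pullback f (Hens2.specOf Y y R)
  let p := pullback.fst f (Hens2.specOf Y y R)
  haveI : IsLocallyNoetherian (Spec (CommRingCat.of R)) := inferInstance
  haveI : IsLocallyNoetherian W := LocallyOfFiniteType.isLocallyNoetherian (pullback.snd f (Hens2.specOf Y y R))
  haveI : CompactSpace W := QuasiCompact.compactSpace_of_compactSpace (pullback.snd f (Hens2.specOf Y y R))
  haveI : IsNoetherian W := { }
  have hW : EtCoh.CohDimLE W ((N + 1) * (N + 1)) := cohDimLE_of_forall fun ℓ hℓ => fun G hG n hn => by
    refine subsingleton_H_of_dimension_function hℓ (fun z => (VarDim.deg a (p.base z) + 1) * (N + 1))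
      (fun z => fun G' hG' m hm => ?_) (fun z z' hzz hne R' _ _ _ _ _ P hP => ?_) n G hG (fun z _ => ?_)
    · refine cdLEAt_residueField_over a b f w y R hℓ z G' hG' m (lt_of_le_of_lt ?_ hm)
      exact (Nat.le_succ _).trans (Nat.le_mul_of_pos_right _ (Nat.succ_pos N))
    · refine ⟨VarDim.deg a (p.base z), ?_, cdLEAt_fractionRing hℓ hzz R' P hP (cdLEAt_residueField_over a b f w y R hℓ z)⟩
      have hsp : p.base z ⤳ p.base z' := hzz.map p.continuous
      have hne' : p.base z ≠ p.base z' := fun he => hne (eq_of_specializes_over f y R hzz he)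
      have hlt : VarDim.deg a (p.base z') < VarDim.deg a (p.base z) := VarDim.deg_strictMono a
        (lt_iff_le_not_ge.2 ⟨hsp, fun h => hne' (Specializes.antisymm hsp (h : p.base z' ⤳ p.base z)).eq⟩)
      show VarDim.deg a (p.base z) + 1 + (VarDim.deg a (p.base z') + 1) * (N + 1) ≤ (VarDim.deg a (p.base z) + 1) * (N + 1)
      nlinarith [hN (p.base z), hlt]
    · refine lt_of_le_of_lt (Nat.mul_le_mul_right _ ?_) hn
      exact Nat.succ_le_succ (hN (p.base z))
  obtain ⟨e⟩ := Groth.Agent.S0620.result f F y R q
  have h0 : IsZero ((EtCoh.stalk (Hens2.geomPt Y y R)).obj ((EtCoh.Rpush f q).obj F)) :=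
    (@AddCommGrpCat.isZero_of_subsingleton _ (hW _ (GalTorLib.isTorsion_pull p F hF) q hq)).of_iso e
  have hpull : IsZero ((EtCoh.pull (Hens2.geomPt Y y R)).obj ((EtCoh.Rpush f q).obj F)) :=
    (EtFound.isZero_iff_stalks _).2 fun Ω' _ _ z =>
      (h0.of_iso ((EtFound.stalkExtIso AddCommGrpCat.{u + 1} (Hens2.geomPt Y y R) z).app _).symm).of_iso
        ((EtFound.sheafFiberPullIso (A := AddCommGrpCat.{u + 1}) (Hens2.geomPt Y y R) z).app _)
  exact CurveCd.isZero_stalk_of_pull (Hens2.geomPt Y y R) _ hpull ξ ⟨_, geomPt_apply y R⟩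

end Groth.Agent.CdDim
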