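import Groth.Agent.CdDim.Dim
import Groth.Agent.CdDim.FieldExt
import Groth.Agent.VarDim.Fibre
import Mathlib.FieldTheory.Extension
import Mathlib.FieldTheory.IsSepClosed

/-! fields inside strict henselizations -/

universe u

open CategoryTheory CategoryTheory.Limits AlgebraicGeometry Opposite Polynomial

namespace Groth.Agent.CdDim

set_option autoImplicit false
set_option maxHeartbeats 1000000
set_option synthInstance.maxHeartbeats 400000
set_option backward.isDefEq.respectTransparency false
set_option backward.isDefEq.respectTransparency.types false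
set_option linter.style.haveILetI false

/-- separable polynomials split in fields over strictly henselian local rings -/
theorem splits_of_strictlyHenselian {R : Type u} [CommRing R] [HenselianLocalRing R]
    [IsSepClosed (IsLocalRing.ResidueField R)] {K : Type u} [Field K] (ι : K →+* R) {E : Type u} [Field E]
    (π : R →+* E) (q : K[X]) (hq : q.Monic) (hsep : q.Separable) :
    (q.map (π.comp ι)).Splits := by
  classical
  let res := IsLocalRing.residue R
  let q0 := q.map (res.comp ι)
  have hs0 : q0.Separable := hsep.map
  have hcard : q0.roots.card = q.natDegree := by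
    rw [splits_iff_card_roots.1 (IsSepClosed.splits_of_separable q0 hs0), natDegree_map]
  have hnd : q0.roots.Nodup := nodup_roots hs0
  have hlift : ∀ a ∈ q0.roots, ∃ r : R, (q.map ι).IsRoot r ∧ res r = a := by
    intro a ha
    obtain ⟨a', rfl⟩ := IsLocalRing.residue_surjective a
    have hroot : q0.IsRoot (res a') := isRoot_of_mem_roots ha
    have hev : ∀ p : K[X], res ((p.map ι).eval a') = (p.map (res.comp ι)).eval (res a') := fun p => by
      rw [← Polynomial.map_map, Polynomial.eval_map (f := res), Polynomial.eval₂_at_apply]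
    obtain ⟨r, hr, hra⟩ := HenselianLocalRing.is_henselian (q.map ι) (hq.map ι) a'
      ((IsLocalRing.residue_eq_zero_iff _).1 ((hev q).trans hroot)) (by
        rw [← IsLocalRing.residue_ne_zero_iff_isUnit, derivative_map, hev, ← derivative_map]
        simpa [q0, derivative_map] using hs0.aeval_derivative_ne_zero (x := res a') (by simpa using hroot))
    exact ⟨r, hr, (sub_eq_zero.1 ((map_sub res r a').symm.trans ((IsLocalRing.residue_eq_zero_iff _).2 hra)))⟩
  choose r hr hres using hlift
  have hne : (q.map (π.comp ι)) ≠ 0 := (hq.map _).ne_zero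
  let T : Finset E := q0.roots.toFinset.attach.image fun a => π (r a.1 (Multiset.mem_toFinset.1 a.2))
  have hT : T.card = q.natDegree := by
    rw [Finset.card_image_of_injective _ fun a b hab => ?_, Finset.card_attach, Multiset.toFinset_card_of_nodup hnd, hcard]
    refine Subtype.ext ?_
    have h0 : π (r a.1 (Multiset.mem_toFinset.1 a.2) - r b.1 (Multiset.mem_toFinset.1 b.2)) = 0 := by
      rw [map_sub]; exact sub_eq_zero.2 hab
    have hnu : ¬ IsUnit (r a.1 (Multiset.mem_toFinset.1 a.2) - r b.1 (Multiset.mem_toFinset.1 b.2)) := fun hu =>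
      (hu.map π).ne_zero h0
    have h1 := (IsLocalRing.residue_eq_zero_iff _).2 ((IsLocalRing.mem_maximalIdeal _).2 (mem_nonunits_iff.2 hnu))
    rw [map_sub, sub_eq_zero] at h1
    exact (hres _ _).symm.trans (h1.trans (hres _ _))
  have hsub : T.val ≤ (q.map (π.comp ι)).roots := (Multiset.le_iff_subset T.nodup).2 fun e he => by
    obtain ⟨a, -, rfl⟩ := Finset.mem_image.1 (Finset.mem_def.2 he)
    refine (mem_roots hne).2 ?_
    show (q.map (π.comp ι)).eval (π _) = 0
    rw [← Polynomial.map_map, Polynomial.eval_map (f := π), Polynomial.eval₂_at_apply]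
    exact (congrArg π (hr a.1 _)).trans (map_zero π)
  refine splits_iff_card_roots.2 (le_antisymm (card_roots' _) ?_)
  rw [natDegree_map, ← hT]
  exact Multiset.card_le_card hsub

/-- cohomological dimension when the separable closure embeds -/
theorem cdLEAt_of_splits {ℓ : ℕ} (hℓ : ℓ.Prime) (K E : Type u) [Field K] [Field E] [Algebra K E] (n : ℕ)
    (htr : Algebra.trdeg K E ≤ n)
    (hsplit : ∀ q : K[X], q.Monic → q.Separable → (q.map (algebraMap K E)).Splits) :
    Dix.CohDimLEAt (Spec (CommRingCat.of E)) ℓ n := by
  let Ks := SeparableClosure K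
  have hsp : ∀ a : Ks, _root_.IsIntegral K a ∧ ((minpoly K a).map (algebraMap K E)).Splits := fun a =>
    ⟨Algebra.IsIntegral.isIntegral a, hsplit _ (minpoly.monic (Algebra.IsIntegral.isIntegral a))
      (Algebra.IsSeparable.isSeparable K a)⟩
  obtain ⟨σ⟩ := IntermediateField.nonempty_algHom_of_splits (F := K) (E := Ks) (K := E) hsp
  letI : Algebra Ks E := σ.toRingHom.toAlgebra
  haveI : IsScalarTower K Ks E := IsScalarTower.of_algebraMap_eq fun c => (σ.commutes c).symm
  have hadd : Algebra.trdeg K Ks + Algebra.trdeg Ks E = Algebra.trdeg K E := trdeg_add_eq K Ks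
  have h := cdLEAt_field_ext hℓ n Ks E 0 (le_trans (le_trans le_add_self hadd.le) htr)
    (cdLEAt_zero_of_isSepClosed Ks ℓ)
  rwa [zero_add] at h

end Groth.Agent.CdDim
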