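import Groth.Agent.CdDim.SepTrick

/-! a rational function field inside a local ring -/

universe u

open CategoryTheory CategoryTheory.Limits AlgebraicGeometry Opposite TensorProduct

namespace Groth.Agent.CdDim

set_option autoImplicit false
set_option maxHeartbeats 1000000
set_option synthInstance.maxHeartbeats 400000
set_option backward.isDefEq.respectTransparency false
set_option backward.isDefEq.respectTransparency.types false
set_option linter.style.haveILetI false

variable {X : Scheme.{u}} {k : Type u} [Field k] (f : X ⟶ Spec (CommRingCat.of k)) [LocallyOfFiniteType f]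

/-- the structure map into a local ring -/
noncomputable def stalkHom (y : X) : k →+* X.presheaf.stalk y :=
  (X.presheaf.germ ⊤ y trivial).hom.comp (VarDim.baseMap f)

omit [LocallyOfFiniteType f] in
theorem specMap_stalkHom {x y : X} (h : x ⤳ y) :
    (Cyc.specMap y x h).comp (stalkHom f y) = VarDim.resHom f x := by
  ext c
  show X.residue x (X.presheaf.stalkSpecializes h (X.presheaf.germ ⊤ y trivial (VarDim.baseMap f c))) = _
  rw [TopCat.Presheaf.germ_stalkSpecializes_apply]
  rfl

/-- a field over which the point is closed maps into the local ring -/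
theorem exists_field_to_stalk (y : X) :
    ∃ (K : Type u) (_ : Field K) (_ : Algebra k K) (θ : K →+* X.presheaf.stalk y),
      θ.comp (algebraMap k K) = stalkHom f y ∧ Algebra.trdeg k K = (VarDim.deg f y : Cardinal) := by
  let O : Type u := X.presheaf.stalk y
  let κ : Type u := X.residueField y
  letI : Algebra k κ := (VarDim.resHom f y).toAlgebra
  letI : Algebra k O := (stalkHom f y).toAlgebra
  obtain ⟨s, hs⟩ := exists_isTranscendenceBasis k κ
  let b : s → O := fun i => (X.residue_surjective y i.1).choose
  have hb : ∀ i : s, X.residue y (b i) = i.1 := fun i => (X.residue_surjective y i.1).choose_spec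
  let P := MvPolynomial s k
  let φ : P →ₐ[k] O := MvPolynomial.aeval b
  let ψ : P →ₐ[k] κ := MvPolynomial.aeval (Subtype.val : s → κ)
  let r : O →ₐ[k] κ := { (X.residue y).hom with commutes' := fun c => rfl }
  have hψ : ∀ p, X.residue y (φ p) = ψ p := fun p => DFunLike.congr_fun
    (MvPolynomial.algHom_ext (f := r.comp φ) (g := ψ) fun i => by
      show X.residue y (φ (MvPolynomial.X i)) = ψ (MvPolynomial.X i)
      rw [MvPolynomial.aeval_X, MvPolynomial.aeval_X, hb]) p
  have hψinj : Function.Injective ψ := hs.1
  have hu : ∀ p : nonZeroDivisors P, IsUnit (φ.toRingHom p) := fun p =>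
    (IsLocalRing.residue_ne_zero_iff_isUnit (φ.toRingHom p)).1 fun h =>
      nonZeroDivisors.ne_zero p.2 (hψinj (((hψ p).symm.trans h).trans (map_zero ψ).symm))
  let K := FractionRing P
  let θ : K →+* O := IsLocalization.lift (S := K) hu
  have hθ : θ.comp (algebraMap k K) = stalkHom f y := by
    ext c
    rw [RingHom.comp_apply, IsScalarTower.algebraMap_apply k P K, IsLocalization.lift_eq]
    exact φ.commutes c
  refine ⟨K, inferInstance, inferInstance, θ, hθ, ?_⟩
  letI : Algebra K κ := ((X.residue y).hom.comp θ).toAlgebra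
  haveI : IsScalarTower k K κ := IsScalarTower.of_algebraMap_eq fun c =>
    (congrArg (X.residue y) (RingHom.congr_fun hθ c)).symm
  letI : Algebra P κ := ψ.toRingHom.toAlgebra
  haveI : IsScalarTower P K κ := IsScalarTower.of_algebraMap_eq fun p => by
    show ψ p = X.residue y (θ (algebraMap P K p))
    rw [IsLocalization.lift_eq]
    exact (hψ p).symm
  haveI := hs.isAlgebraic
  haveI : Algebra.IsAlgebraic P κ := by
    refine Algebra.IsAlgebraic.of_ringHom_of_comp_eq (S := Algebra.adjoin k (Set.range (Subtype.val : s → κ)))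
      (hs.1.aevalEquiv : P →+* _) (RingHom.id κ) hs.1.aevalEquiv.surjective Function.injective_id ?_
    exact RingHom.ext fun p => hs.1.algebraMap_aevalEquiv p
  haveI : Algebra.IsAlgebraic K κ := Algebra.IsAlgebraic.extendScalars (R := P) (IsFractionRing.injective P K)
  rw [VarDim.deg_eq_tdeg f y]
  have hadd : Algebra.trdeg k K + Algebra.trdeg K κ = Algebra.trdeg k κ := trdeg_add_eq k K
  rw [show Algebra.trdeg K κ = 0 from trdeg_eq_zero_iff.2 inferInstance, add_zero] at hadd
  exact hadd

/-- cohomological dimension of fields over a strict henselization and algebraic over a residue field -/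
theorem cdLEAt_over_strictHenselization {ℓ : ℕ} (hℓ : ℓ.Prime) (x : X) (y : X) (R : Type u) [CommRing R]
    [IsLocalRing R] [Algebra (X.presheaf.stalk y) R] [IsLocalHom (algebraMap (X.presheaf.stalk y) R)]
    [Hensel.IsStrictHenselization (X.presheaf.stalk y) R] (E : Type u) [Field E] (π : R →+* E)
    (ψ : X.residueField x →+* E) (hψ : ψ.IsIntegral)
    (hk : π.comp ((algebraMap (X.presheaf.stalk y) R).comp (stalkHom f y)) = ψ.comp (VarDim.resHom f x))
    (n : ℕ) (hn : VarDim.deg f x ≤ n + VarDim.deg f y) :
    Dix.CohDimLEAt (Spec (CommRingCat.of E)) ℓ n := by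
  haveI : IsSepClosed (IsLocalRing.ResidueField R) :=
    (Hensel.IsStrictHenselization.isSepClosure (R := X.presheaf.stalk y) (S := R)).sep_closed
  haveI : HenselianLocalRing R := Hensel.IsStrictHenselization.henselian (R := X.presheaf.stalk y)
  obtain ⟨K, _, _, θ, hθ, hKtr⟩ := exists_field_to_stalk f y
  let ι : K →+* R := (algebraMap (X.presheaf.stalk y) R).comp θ
  letI : Algebra K E := (π.comp ι).toAlgebra
  refine cdLEAt_of_splits hℓ K E n ?_ fun q hq hs => splits_of_strictlyHenselian ι π q hq hs
  letI : Algebra k E := ((π.comp ι).comp (algebraMap k K)).toAlgebra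
  haveI : IsScalarTower k K E := IsScalarTower.of_algebraMap_eq fun _ => rfl
  letI : Algebra k (X.residueField x) := (VarDim.resHom f x).toAlgebra
  letI : Algebra (X.residueField x) E := ψ.toAlgebra
  haveI : IsScalarTower k (X.residueField x) E := IsScalarTower.of_algebraMap_eq fun c => by
    show π (algebraMap _ R (θ (algebraMap k K c))) = ψ (VarDim.resHom f x c)
    rw [show θ (algebraMap k K c) = stalkHom f y c from RingHom.congr_fun hθ c]
    exact RingHom.congr_fun hk c
  haveI : Algebra.IsIntegral (X.residueField x) E := ⟨hψ⟩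
  have hE : Algebra.trdeg k E = (VarDim.deg f x : Cardinal) := by
    have h : Algebra.trdeg k (X.residueField x) + Algebra.trdeg (X.residueField x) E = Algebra.trdeg k E :=
      trdeg_add_eq k (X.residueField x)
    rw [show Algebra.trdeg (X.residueField x) E = 0 from trdeg_eq_zero_iff.2 inferInstance, add_zero] at h
    exact h.symm.trans (VarDim.deg_eq_tdeg f x).symm
  have hadd : Algebra.trdeg k K + Algebra.trdeg K E = Algebra.trdeg k E := trdeg_add_eq k K
  rw [hE, hKtr] at hadd
  obtain ⟨j, hj⟩ := Cardinal.lt_aleph0.1 ((le_add_self.trans_eq hadd).trans_lt (Cardinal.natCast_lt_aleph0 (n := VarDim.deg f x)))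
  rw [hj] at hadd ⊢
  have : VarDim.deg f y + j = VarDim.deg f x := by exact_mod_cast hadd
  exact_mod_cast (by omega : j ≤ n)

/-- fraction fields of components of a specialisation inside a strict henselization -/
theorem cdLEAt_fractionRing_deg {ℓ : ℕ} (hℓ : ℓ.Prime) {x y : X} (h : x ⤳ y) (R : Type u) [CommRing R] [IsLocalRing R]
    [Algebra (X.presheaf.stalk y) R] [IsLocalHom (algebraMap (X.presheaf.stalk y) R)]
    [Hensel.IsStrictHenselization (X.presheaf.stalk y) R]
    (P : Ideal R) (hP : P ∈ ((RingHom.ker (Cyc.specMap y x h)).map (algebraMap (X.presheaf.stalk y) R)).minimalPrimes) :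
    Dix.CohDimLEAt (Spec (CommRingCat.of (FractionRing (R ⧸ P)))) ℓ (VarDim.deg f x - VarDim.deg f y) := by
  letI := (Cyc.specMap y x h).toAlgebra
  haveI : (RingHom.ker (Cyc.specMap y x h)).IsPrime := RingHom.ker_isPrime _
  haveI : P.IsPrime := hP.1.1
  have hR := Groth.Agent.S12237.result (X.presheaf.stalk y) R
  haveI : Algebra.WeaklyEtale (X.presheaf.stalk y) R := Groth.Agent.S0736.result _ _ hR
  haveI : Module.Flat (X.presheaf.stalk y) R := Algebra.WeaklyEtale.flat
  have hK := isFracHom_specMap h
  obtain ⟨q, hq, rfl⟩ := exists_prime_over hK P (comap_eq_of_minimalPrimes _ P hP)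
  haveI := hq
  haveI : q.IsMaximal := isMaximal_fibre hR q
  let K1 : Type u := X.residueField x
  let B : Type u := (X.residueField x) ⊗[X.presheaf.stalk y] R
  haveI : Algebra.IsIntegral K1 B := isIntegral_fibre hR
  let j : R →+* q.ResidueField := (algebraMap B q.ResidueField).comp (Algebra.TensorProduct.includeRight : R →ₐ[X.presheaf.stalk y] B).toRingHom
  obtain ⟨e⟩ := nonempty_residueField_equiv hK q
  let c : K1 →+* q.ResidueField := (algebraMap B q.ResidueField).comp (algebraMap K1 B)
  have hc : c.IsIntegral :=
    RingHom.IsIntegral.trans _ _ (Algebra.IsIntegral.isIntegral (R := K1) (A := B))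
      (RingHom.isIntegral_of_surjective _ (Ideal.algebraMap_residueField_surjective q))
  have hcd : Dix.CohDimLEAt (Spec (CommRingCat.of q.ResidueField)) ℓ (VarDim.deg f x - VarDim.deg f y) := by
    refine cdLEAt_over_strictHenselization f hℓ x y R q.ResidueField j c hc ?_ _ (by omega)
    ext a
    show algebraMap B q.ResidueField ((1 : K1) ⊗ₜ[X.presheaf.stalk y] algebraMap (X.presheaf.stalk y) R (stalkHom f y a)) =
      algebraMap B q.ResidueField (algebraMap K1 B (VarDim.resHom f x a))
    rw [← specMap_stalkHom f h]
    refine congrArg (algebraMap B q.ResidueField) ?_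
    rw [Algebra.algebraMap_eq_smul_one, ← TensorProduct.smul_tmul, ← Algebra.algebraMap_eq_smul_one]
    rfl
  haveI : IsIntegralHom (Spec.map (CommRingCat.ofHom e.symm.toRingHom)) :=
    IsIntegralHom.SpecMap_iff.2 (RingHom.isIntegral_of_surjective _ e.symm.surjective)
  exact cdLEAt_of_isIntegralHom hℓ (Spec.map (CommRingCat.ofHom e.symm.toRingHom)) hcd

end Groth.Agent.CdDim
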