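import Groth.Agent.CdDim.StalkField
import Groth.Agent.GrpSchLib.FieldDim
import Groth.Agent.GalTorLib.CohDim
import Groth.Agent.S0620
import Groth.Agent.S0540

/-! strict localisations of the base of a morphism over a field -/

universe u

open CategoryTheory CategoryTheory.Limits AlgebraicGeometry Opposite TensorProduct

namespace Groth.Agent.CdDim

set_option autoImplicit false
set_option maxHeartbeats 1000000
set_option synthInstance.maxHeartbeats 400000
set_option backward.isDefEq.respectTransparency false
set_option backward.isDefEq.respectTransparency.types false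
set_option linter.style.haveILetI false

variable {k : Type u} [Field k] {X Y : Scheme.{u}} (a : X ⟶ Spec (CommRingCat.of k)) (b : Y ⟶ Spec (CommRingCat.of k))

theorem fromSpecStalk_comp_base (y : Y) :
    Y.fromSpecStalk y ≫ b = Spec.map (CommRingCat.ofHom (stalkHom b y)) := by
  apply ext_of_isAffine
  have h := Scheme.ΓSpecIso_naturality (CommRingCat.ofHom (stalkHom b y))
  rw [Scheme.Hom.comp_appTop, Scheme.fromSpecStalk_appTop]
  rw [← cancel_mono (Scheme.ΓSpecIso (Y.presheaf.stalk y)).hom]
  refine Eq.trans ?_ h.symm
  simp only [Category.assoc]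
  rw [← cancel_epi (Scheme.ΓSpecIso (CommRingCat.of k)).inv]
  simp only [Iso.inv_hom_id_assoc]
  ext c
  simp [stalkHom, VarDim.baseMap]
  all_goals rfl

theorem fromSpecResidueField_comp_base (x : X) :
    X.fromSpecResidueField x ≫ a = Spec.map (CommRingCat.ofHom (VarDim.resHom a x)) := by
  have h : CommRingCat.ofHom (stalkHom a x) ≫ X.residue x = CommRingCat.ofHom (VarDim.resHom a x) := rfl
  rw [← h, Spec.map_comp, ← fromSpecStalk_comp_base, Scheme.fromSpecResidueField, Category.assoc]

variable [LocallyOfFiniteType a] [LocallyOfFiniteType b] (f : X ⟶ Y) (w : f ≫ b = a) (y : Y) (R : Type u)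
  [CommRing R] [IsLocalRing R] [Algebra (Y.presheaf.stalk y) R] [IsLocalHom (algebraMap (Y.presheaf.stalk y) R)]
  [Hensel.IsStrictHenselization (Y.presheaf.stalk y) R]

omit [LocallyOfFiniteType a] [LocallyOfFiniteType b] w in
theorem isIntegralHom_fibre_over (x : X) :
    IsIntegralHom (pullback.fst (X.fromSpecResidueField x) (pullback.fst f (Hens2.specOf Y y R))) := by
  let p := pullback.fst f (Hens2.specOf Y y R)
  let y' := f.base x
  have hpb : IsPullback (pullback.fst (X.fromSpecResidueField x) p)
      (pullback.snd (X.fromSpecResidueField x) p ≫ pullback.snd f (Hens2.specOf Y y R))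
      (X.fromSpecResidueField x ≫ f) (Hens2.specOf Y y R) :=
    ((IsPullback.of_hasPullback (X.fromSpecResidueField x) p).flip.paste_horiz
      (IsPullback.of_hasPullback f (Hens2.specOf Y y R)).flip).flip
  by_cases hsp : y' ⤳ y
  · letI := (Cyc.specMap y y' hsp).toAlgebra
    obtain ⟨e, he⟩ := nonempty_fibre_iso hsp R
    haveI : Algebra.IsIntegral (Y.residueField y') ((Y.residueField y') ⊗[Y.presheaf.stalk y] R) :=
      isIntegral_fibre (Groth.Agent.S12237.result (Y.presheaf.stalk y) R)
    haveI : IsIntegralHom (Spec.map (CommRingCat.ofHom (Algebra.TensorProduct.includeLeftRingHom :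
        (Y.residueField y') →+* (Y.residueField y') ⊗[Y.presheaf.stalk y] R))) :=
      (IsIntegralHom.SpecMap_iff).2 (Algebra.IsIntegral.isIntegral (R := Y.residueField y'))
    let q := pullback.fst (Y.fromSpecResidueField y') (Hens2.specOf Y y R)
    haveI : IsIntegralHom q := by
      have h' : q = e.hom ≫ Spec.map (CommRingCat.ofHom (Algebra.TensorProduct.includeLeftRingHom :
          (Y.residueField y') →+* (Y.residueField y') ⊗[Y.presheaf.stalk y] R)) := by
        rw [← he, Iso.hom_inv_id_assoc]
      rw [h']
      infer_instance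
    have hpb' : IsPullback (pullback.fst (X.fromSpecResidueField x) p)
        (pullback.snd (X.fromSpecResidueField x) p ≫ pullback.snd f (Hens2.specOf Y y R))
        (Spec.map (f.residueFieldMap x) ≫ Y.fromSpecResidueField y') (Hens2.specOf Y y R) := by
      rw [Scheme.Hom.SpecMap_residueFieldMap_fromSpecResidueField]
      exact hpb
    have hb := IsPullback.of_hasPullback (Y.fromSpecResidueField y') (Hens2.specOf Y y R)
    let g := hb.lift (pullback.fst (X.fromSpecResidueField x) p ≫ Spec.map (f.residueFieldMap x))
      (pullback.snd (X.fromSpecResidueField x) p ≫ pullback.snd f (Hens2.specOf Y y R))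
      ((Category.assoc _ _ _).trans hpb'.w)
    have hl : IsPullback (pullback.fst (X.fromSpecResidueField x) p) g (Spec.map (f.residueFieldMap x)) q :=
      IsPullback.of_bot (by
        rw [hb.lift_snd]
        exact hpb') (hb.lift_fst _ _ _).symm hb
    exact MorphismProperty.of_isPullback (P := @IsIntegralHom) hl.flip (by assumption : IsIntegralHom q)
  · haveI : IsEmpty ↥(pullback (X.fromSpecResidueField x) p) := ⟨fun z => by
      apply hsp
      let s := (pullback.snd (X.fromSpecResidueField x) p ≫ pullback.snd f (Hens2.specOf Y y R)).base z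
      have h1 : (Hens2.specOf Y y R).base s = y' := by
        refine (Scheme.Hom.comp_apply _ _ _).symm.trans ((congrArg (fun r => r.base z) hpb.w).symm.trans ?_)
        refine (Scheme.Hom.comp_apply _ _ _).trans ?_
        rw [Scheme.Hom.comp_apply, Scheme.fromSpecResidueField_apply]
      have h2 : y' ∈ Set.range (Y.fromSpecStalk y).base := ⟨_, h1⟩
      rw [Scheme.range_fromSpecStalk] at h2
      exact h2⟩
    infer_instance

omit [LocallyOfFiniteType a] [LocallyOfFiniteType b] w in
/-- points over the same point do not specialise to one another -/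
theorem eq_of_specializes_over {z z' : ↥(pullback f (Hens2.specOf Y y R))} (h : z ⤳ z')
    (he : (pullback.fst f (Hens2.specOf Y y R)).base z = (pullback.fst f (Hens2.specOf Y y R)).base z') : z = z' := by
  let p := pullback.fst f (Hens2.specOf Y y R)
  let x := p.base z
  haveI := isIntegralHom_fibre_over f y R x
  let j := pullback.snd (X.fromSpecResidueField x) p
  haveI : IsPreimmersion (X.fromSpecResidueField x) := inferInstance
  haveI : IsPreimmersion j := MorphismProperty.pullback_snd (P := @IsPreimmersion) (X.fromSpecResidueField x) p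
    ‹IsPreimmersion (X.fromSpecResidueField x)›
  obtain ⟨u, -, hu⟩ := Scheme.Pullback.exists_preimage_pullback (f := X.fromSpecResidueField x) (g := p)
    (default : Spec (X.residueField x)) z (Scheme.fromSpecResidueField_apply x _)
  obtain ⟨u', -, hu'⟩ := Scheme.Pullback.exists_preimage_pullback (f := X.fromSpecResidueField x) (g := p)
    (default : Spec (X.residueField x)) z' ((Scheme.fromSpecResidueField_apply x _).trans he)
  rw [← hu, ← hu']
  refine congrArg j.base (GrpSchLib.eq_of_specializes_of_isIntegralHom
    (pullback.fst (X.fromSpecResidueField x) p) ?_ (Subsingleton.elim _ _))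
  exact j.isEmbedding.specializes_iff.1 (by
    show j.base u ⤳ j.base u'
    rw [hu, hu']
    exact h)

include w in
/-- the residue fields of the strict localisation of a morphism -/
theorem cdLEAt_residueField_over {ℓ : ℕ} (hℓ : ℓ.Prime) (z : ↥(pullback f (Hens2.specOf Y y R))) :
    Dix.CohDimLEAt (Spec ((pullback f (Hens2.specOf Y y R)).residueField z)) ℓ
      (VarDim.deg a ((pullback.fst f (Hens2.specOf Y y R)).base z)) := by
  let W := pullback f (Hens2.specOf Y y R)
  let p := pullback.fst f (Hens2.specOf Y y R)
  let x := p.base z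
  haveI := isIntegralHom_fibre_over f y R x
  let j := pullback.snd (X.fromSpecResidueField x) p
  haveI : IsPreimmersion j := MorphismProperty.pullback_snd (P := @IsPreimmersion) (X.fromSpecResidueField x) p
    (inferInstanceAs (IsPreimmersion (X.fromSpecResidueField x)))
  obtain ⟨u, -, hu⟩ := Scheme.Pullback.exists_preimage_pullback (f := X.fromSpecResidueField x) (g := p)
    (default : Spec (X.residueField x)) z (Scheme.fromSpecResidueField_apply x _)
  let F := pullback (X.fromSpecResidueField x) p
  let r := pullback.fst (X.fromSpecResidueField x) p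
  haveI : Subsingleton (Spec (X.residueField x)) := inferInstance
  have hclosed : IsClosed ({u} : Set F) := isClosed_of_closure_subset fun u' hu' =>
    Set.mem_singleton_iff.2 (GrpSchLib.eq_of_specializes_of_isIntegralHom r
      (specializes_iff_mem_closure.2 hu') (Subsingleton.elim _ _)).symm
  haveI : IsClosedImmersion (F.fromSpecResidueField u) := isClosed_singleton_iff_isClosedImmersion.1 hclosed
  let E : Type u := F.residueField u
  let m : Spec (F.residueField u) ⟶ W := F.fromSpecResidueField u ≫ j
  let ψ0 := Spec.preimage (F.fromSpecResidueField u ≫ r)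
  have hψ0 : Spec.map ψ0 = F.fromSpecResidueField u ≫ r := Spec.map_preimage _
  have hψ : ψ0.hom.IsIntegral := IsIntegralHom.SpecMap_iff.1 (by rw [hψ0]; infer_instance)
  let π0 := Spec.preimage (m ≫ pullback.snd f (Hens2.specOf Y y R))
  have hπ0 : Spec.map π0 = m ≫ pullback.snd f (Hens2.specOf Y y R) := Spec.map_preimage _
  have hk : CommRingCat.ofHom (stalkHom b y) ≫ CommRingCat.ofHom (algebraMap (Y.presheaf.stalk y) R) ≫ π0 =
      CommRingCat.ofHom (VarDim.resHom a x) ≫ ψ0 := Spec.map_injective (by
    rw [Spec.map_comp, Spec.map_comp, Spec.map_comp, hπ0, hψ0, ← fromSpecStalk_comp_base, ← fromSpecResidueField_comp_base]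
    simp only [m, Category.assoc]
    have h1 : pullback.snd f (Hens2.specOf Y y R) ≫
        Spec.map (CommRingCat.ofHom (algebraMap (Y.presheaf.stalk y) R)) ≫ Y.fromSpecStalk y ≫ b = p ≫ a := by
      rw [← w]
      exact (congrArg (pullback.snd f (Hens2.specOf Y y R) ≫ ·) (Category.assoc _ _ _).symm).trans
        ((Category.assoc _ _ _).symm.trans ((congrArg (· ≫ b) (pullback.condition (f := f) (g := Hens2.specOf Y y R)).symm).trans
          (Category.assoc _ _ _)))
    rw [h1]
    exact congrArg (F.fromSpecResidueField u ≫ ·) ((Category.assoc _ _ _).symm.trans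
      ((congrArg (· ≫ a) (pullback.condition (f := X.fromSpecResidueField x) (g := p)).symm).trans (Category.assoc _ _ _))))
  have hcdE : Dix.CohDimLEAt (Spec (CommRingCat.of E)) ℓ (VarDim.deg a x) := by
    haveI : IsSepClosed (IsLocalRing.ResidueField R) :=
      (Hensel.IsStrictHenselization.isSepClosure (R := Y.presheaf.stalk y) (S := R)).sep_closed
    haveI : HenselianLocalRing R := Hensel.IsStrictHenselization.henselian (R := Y.presheaf.stalk y)
    obtain ⟨K, _, _, θ, hθ, hKtr⟩ := exists_field_to_stalk b y
    let ι : K →+* R := (algebraMap (Y.presheaf.stalk y) R).comp θ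
    letI : Algebra K E := (π0.hom.comp ι).toAlgebra
    refine cdLEAt_of_splits hℓ K E _ ?_ fun q hq hs => splits_of_strictlyHenselian ι π0.hom q hq hs
    letI : Algebra k E := ((π0.hom.comp ι).comp (algebraMap k K)).toAlgebra
    haveI : IsScalarTower k K E := IsScalarTower.of_algebraMap_eq fun _ => rfl
    letI : Algebra k (X.residueField x) := (VarDim.resHom a x).toAlgebra
    letI : Algebra (X.residueField x) E := ψ0.hom.toAlgebra
    haveI : IsScalarTower k (X.residueField x) E := IsScalarTower.of_algebraMap_eq fun c => by
      show π0 (algebraMap _ R (θ (algebraMap k K c))) = ψ0 (VarDim.resHom a x c)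
      rw [show θ (algebraMap k K c) = stalkHom b y c from RingHom.congr_fun hθ c]
      exact congrArg (fun t => t.hom c) hk
    haveI : Algebra.IsIntegral (X.residueField x) E := ⟨hψ⟩
    have hE : Algebra.trdeg k E = (VarDim.deg a x : Cardinal) := by
      have h : Algebra.trdeg k (X.residueField x) + Algebra.trdeg (X.residueField x) E = Algebra.trdeg k E :=
        trdeg_add_eq k (X.residueField x)
      rw [show Algebra.trdeg (X.residueField x) E = 0 from trdeg_eq_zero_iff.2 inferInstance, add_zero] at h
      exact h.symm.trans (VarDim.deg_eq_tdeg a x).symm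
    have hadd : Algebra.trdeg k K + Algebra.trdeg K E = Algebra.trdeg k E := trdeg_add_eq k K
    exact le_add_self.trans (hadd.trans hE).le
  -- the residue field of the image
  have hju : j.base u = z := hu
  show Dix.CohDimLEAt (Spec (W.residueField z)) ℓ (VarDim.deg a x)
  clear_value x
  subst hju
  let c := j.residueFieldMap u
  haveI : IsIso c := (ConcreteCategory.isIso_iff_bijective c).2 ⟨c.hom.injective, fun t => by
    obtain ⟨t, rfl⟩ := F.residue_surjective u t
    obtain ⟨s, rfl⟩ := j.stalkMap_surjective u t
    exact ⟨W.residue _ s, (congrArg (fun r => r s) (Scheme.residue_residueFieldMap j u))⟩⟩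
  exact cdLEAt_of_isIntegralHom hℓ (Spec.map (inv c)) hcdE

end Groth.Agent.CdDim
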