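import Groth.Agent.CdDim.StalkField
import Groth.Agent.CdDim.FiniteType

/-! twice the dimension -/

universe u

open CategoryTheory CategoryTheory.Limits AlgebraicGeometry Opposite

namespace Groth.Agent.CdDim

set_option autoImplicit false
set_option maxHeartbeats 1000000
set_option synthInstance.maxHeartbeats 400000
set_option backward.isDefEq.respectTransparency false
set_option backward.isDefEq.respectTransparency.types false
set_option linter.style.haveILetI false

theorem cdLEAt_two_dim {k : Type u} [Field k] {X : Scheme.{u}} (f : X ⟶ Spec (CommRingCat.of k))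
    [LocallyOfFiniteType f] [QuasiCompact f] (n : ℕ) (hn : topologicalKrullDim X ≤ n)
    {ℓ : ℕ} (hℓ : ℓ.Prime) (e : ℕ) (he : Dix.CohDimLEAt (Spec (CommRingCat.of k)) ℓ e) :
    Dix.CohDimLEAt X ℓ (2 * n + e) := by
  haveI : IsLocallyNoetherian X := LocallyOfFiniteType.isLocallyNoetherian f
  haveI : CompactSpace X := QuasiCompact.compactSpace_of_compactSpace f
  haveI : IsNoetherian X := { }
  have hdeg : ∀ x : X, VarDim.deg f x ≤ n := fun x => by
    have := CurveCd.height_le_of_dim hn x
    rw [VarDim.height_eq_deg f] at this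
    exact_mod_cast this
  intro F hF q hq
  refine subsingleton_H_of_dimension_function hℓ (fun x => e + 2 * VarDim.deg f x) (fun x => ?_)
    (fun x y hxy hne R _ _ _ _ _ P hP => ?_) q F hF (fun x _ => ?_)
  · exact fun G hG m hm => cdLEAt_residueField f hℓ he x G hG m (by omega)
  · have hlt : VarDim.deg f y < VarDim.deg f x := VarDim.deg_strictMono f
      (lt_iff_le_not_ge.2 ⟨hxy, fun h => hne (Specializes.antisymm hxy (h : y ⤳ x)).eq⟩)
    exact ⟨_, by omega, cdLEAt_fractionRing_deg f hℓ hxy R P hP⟩
  · have := hdeg x
    omega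

end Groth.Agent.CdDim
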